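import Mathlib
import Cfsg.Prelude.Def_Characters
import Cfsg.Agent.Characters.Core
import Cfsg.Agent.Characters.Linear
import Cfsg.Agent.Characters.Central
import Cfsg.Agent.Blocks.Over
import Cfsg.Agent.Lib.CoprimeAbelian
set_option linter.all false

-- part: H727/VanRep
section
/-!
# Producing vanishing elements

* `Van g` : some irreducible character vanishes at `g`.
* `character_eq_zero_of_sum` : if every `d * x`, `d ∈ D`, is conjugate to `x` and `∑ d, ρ d = 0`
  then the character of `ρ` vanishes at `x`.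
* `exists_rep_sum_eq_zero` : if `λ` is a linear character of the normal subgroup `N`, `D ≤ N` and
  no conjugate of `D` is in the kernel of `λ`, then some irreducible representation has `∑ d, ρ d = 0`.
-/

set_option autoImplicit false

namespace Cfsg.Agent.H727.VanEl

open Cfsg Representation
open scoped ComplexConjugate

variable {G : Type*} [Group G]

/-- `g` is a vanishing element: some irreducible character is zero at `g`. -/
def Van (g : G) : Prop := ∃ χ : IrrCharacter G, (χ : G → ℂ) g = 0

theorem van_of_conj {x y : G} (h : IsConj x y) (hx : Van x) : Van y := by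
  obtain ⟨χ, hχ⟩ := hx
  obtain ⟨c, hc⟩ := isConj_iff.1 h
  refine ⟨χ, ?_⟩
  rw [← hc, Cfsg.Agent.Characters.Core.isIrr_isClassFunction χ.2 x c, hχ]

/-- Vanishing elements of a quotient lift to vanishing elements. -/
theorem van_of_mk {N : Subgroup G} [N.Normal] {x : G}
    (h : Van (QuotientGroup.mk x : G ⧸ N)) : Van x := by
  obtain ⟨χ, hχ⟩ := h
  exact ⟨⟨_, Cfsg.Agent.Characters.Core.isIrr_comp (QuotientGroup.mk' N)
    (QuotientGroup.mk'_surjective N) χ.2⟩, hχ⟩

/-- **Criterion**: if every `d * x` with `d ∈ D` is conjugate to `x` and `∑ d, ρ d = 0`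
then the character of `ρ` vanishes at `x`. -/
theorem character_eq_zero_of_sum {n : ℕ} (ρ : Representation ℂ G (Fin n → ℂ))
    (D : Subgroup G) [Fintype D] (x : G) (hconj : ∀ d : G, d ∈ D → IsConj x (d * x))
    (h0 : ∑ d : D, ρ d = 0) : ρ.character x = 0 := by
  have h1 : LinearMap.trace ℂ _ ((∑ d : D, ρ d) * ρ x) = 0 := by
    rw [h0, zero_mul, map_zero]
  rw [Finset.sum_mul, map_sum] at h1
  have h2 : ∀ d : D, LinearMap.trace ℂ _ (ρ d * ρ x) = ρ.character x := by
    intro d
    rw [← map_mul]
    obtain ⟨c, hc⟩ := isConj_iff.1 (hconj d d.2)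
    have h3 := Cfsg.Agent.Characters.Core.isCharacter_isClassFunction (χ := ρ.character)
      ⟨n, ρ, rfl⟩ x c
    rw [hc] at h3
    exact h3
  simp only [h2, Finset.sum_const, Finset.card_univ, nsmul_eq_mul] at h1
  rcases mul_eq_zero.1 h1 with h | h
  · exfalso
    have : (Fintype.card D : ℂ) ≠ 0 := Nat.cast_ne_zero.2 Fintype.card_ne_zero
    exact this h
  · exact h

/-- If `λ` is a linear character of the normal subgroup `N`, `D ≤ N` and no conjugate of `D`
is in the kernel of `λ`, then some irreducible representation of `G` has `∑ d, ρ d = 0`. -/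
theorem exists_rep_sum_eq_zero [Finite G] (N : Subgroup G) [hN : N.Normal] (lam : N →* ℂˣ)
    (D : Subgroup G) [Fintype D] (hDN : D ≤ N)
    (hD : ∀ g : G, ∃ d : G, ∃ hd : d ∈ D, lam ⟨g⁻¹ * d * g, by
      have := hN.conj_mem d (hDN hd) g⁻¹
      rwa [inv_inv] at this⟩ ≠ 1) :
    ∃ (n : ℕ) (ρ : Representation ℂ G (Fin n → ℂ)), ρ.IsIrreducible ∧ ∑ d : D, ρ d = 0 := by
  classical
  have := Fintype.ofFinite G
  have := Fintype.ofFinite N
  -- the linear character as an irreducible character of `N`
  have hirr : IsIrrCharacter N (fun n : N => (lam n : ℂ)) :=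
    Cfsg.Agent.Characters.Linear.isIrrCharacter_hom lam
  obtain ⟨⟨χ, m, ρ, hρ, hχ⟩, hover⟩ := Cfsg.Agent.Blocks.Over.exists_over N ⟨_, hirr⟩
  refine ⟨m, ρ, hρ, ?_⟩
  simp only at hover
  -- the projection onto the eigenspace
  set e : Module.End ℂ (Fin m → ℂ) := ∑ n : N, ((lam n : ℂ)⁻¹) • ρ n with he
  have hnorm : ∀ n : N, conj (lam n : ℂ) = ((lam n : ℂ))⁻¹ := by
    intro n
    have h1 : (lam n) ^ (Nat.card N) = 1 := by
      rw [← map_pow, pow_card_eq_one', map_one]
    have h2 : ‖(lam n : ℂ)‖ = 1 := by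
      have h3 : (lam n : ℂ) ^ (Nat.card N) = 1 := by
        have := congrArg (Units.val) h1
        simpa using this
      exact Complex.norm_eq_one_of_pow_eq_one h3 Nat.card_pos.ne'
    rw [Complex.inv_def, Complex.normSq_eq_norm_sq, h2]
    simp
  have he0 : e ≠ 0 := by
    intro h0
    apply hover
    have h1 : LinearMap.trace ℂ _ e = 0 := by rw [h0, map_zero]
    rw [he, map_sum] at h1
    rw [Cfsg.Agent.Characters.Core.classInner_def]
    have h2 : ∀ n : N, LinearMap.trace ℂ _ (((lam n : ℂ)⁻¹) • ρ n) =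
        χ n * conj (lam n : ℂ) := by
      intro n
      rw [map_smul, hnorm, ← hχ, smul_eq_mul, mul_comm]
      rfl
    simp only [h2] at h1
    rw [h1, mul_zero]
  obtain ⟨v, hv⟩ : ∃ v, e v ≠ 0 := by
    by_contra hcon
    push Not at hcon
    exact he0 (LinearMap.ext hcon)
  -- `w = e v` is an eigenvector
  set w := e v with hw
  have hwN : ∀ n : N, ρ n w = (lam n : ℂ) • w := by
    intro n
    have h1 : ρ n * e = (lam n : ℂ) • e := by
      rw [he, Finset.mul_sum, Finset.smul_sum]
      refine Fintype.sum_equiv (Equiv.mulLeft n) _ _ fun k => ?_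
      rw [Equiv.coe_mulLeft, mul_smul_comm, ← map_mul, smul_smul, map_mul lam, Units.val_mul,
        mul_inv, ← mul_assoc, mul_inv_cancel₀ (Units.ne_zero _), one_mul]
      rfl
    have h2 := congrArg (fun T : Module.End ℂ (Fin m → ℂ) => T v) h1
    exact h2
  set P : Module.End ℂ (Fin m → ℂ) := ∑ d : D, ρ d with hP
  have hPw : ∀ g : G, P (ρ g w) = 0 := by
    intro g
    have hmem : ∀ d : D, g⁻¹ * (d : G) * g ∈ N := by
      intro d
      have := hN.conj_mem d (hDN d.2) g⁻¹
      rwa [inv_inv] at this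
    have h1 : ∀ d : D, ρ d (ρ g w) = (lam ⟨g⁻¹ * d * g, hmem d⟩ : ℂ) • ρ g w := by
      intro d
      have h2 : ρ (d : G) (ρ g w) = ρ g (ρ ((⟨g⁻¹ * d * g, hmem d⟩ : N) : G) w) := by
        have h5 : ρ (d : G) * ρ g = ρ g * ρ ((⟨g⁻¹ * d * g, hmem d⟩ : N) : G) := by
          rw [← map_mul, ← map_mul]
          congr 1
          simp only
          group
        exact congrArg (fun T : Module.End ℂ (Fin m → ℂ) => T w) h5
      rw [h2, hwN, map_smul]
    rw [hP, LinearMap.sum_apply]
    simp only [h1]
    rw [← Finset.sum_smul]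
    let f : D →* ℂ := (Units.coeHom ℂ).comp (lam.comp
      { toFun := fun d : D => (⟨g⁻¹ * d * g, hmem d⟩ : N)
        map_one' := by
          apply Subtype.ext
          simp
        map_mul' := fun a b => by
          apply Subtype.ext
          simp only [Subgroup.coe_mul]
          group })
    have hf : f ≠ 1 := by
      obtain ⟨d, hd, hne⟩ := hD g
      intro hf1
      apply hne
      have := congrArg (fun F : D →* ℂ => F ⟨d, hd⟩) hf1
      exact Units.ext this
    have h3 := sum_hom_units_eq_zero f hf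
    have h4 : ∑ d : D, (lam ⟨g⁻¹ * d * g, hmem d⟩ : ℂ) = 0 := h3
    rw [h4, zero_smul]
  -- the set of vectors killed by all `P ∘ ρ g` is a subrepresentation
  let σ : Subrepresentation ρ := ⟨⨅ g : G, LinearMap.ker (P * ρ g), by
    intro h u hu
    rw [Submodule.mem_iInf] at hu ⊢
    intro g
    have := hu (g * h)
    rw [LinearMap.mem_ker, map_mul] at this
    rw [LinearMap.mem_ker]
    exact this⟩
  have hσw : w ∈ σ.toSubmodule := by
    change w ∈ (⨅ g : G, LinearMap.ker (P * ρ g))
    rw [Submodule.mem_iInf]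
    intro g
    exact hPw g
  rcases hρ.eq_bot_or_eq_top σ with h | h
  · exfalso
    rw [h] at hσw
    exact hv ((Submodule.mem_bot ℂ).1 hσw)
  · apply LinearMap.ext
    intro u
    have hu : u ∈ σ.toSubmodule := by
      rw [h]
      exact Submodule.mem_top
    change u ∈ (⨅ g : G, LinearMap.ker (P * ρ g)) at hu
    rw [Submodule.mem_iInf] at hu
    have h1 := hu 1
    rw [LinearMap.mem_ker, map_one, mul_one] at h1
    exact h1

/-- Both together: a vanishing element. -/
theorem van_of_lam [Finite G] (N : Subgroup G) [hN : N.Normal] (lam : N →* ℂˣ)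
    (D : Subgroup G) (hDN : D ≤ N) (x : G) (hconj : ∀ d : G, d ∈ D → IsConj x (d * x))
    (hD : ∀ g : G, ∃ d : G, ∃ hd : d ∈ D, lam ⟨g⁻¹ * d * g, by
      have := hN.conj_mem d (hDN hd) g⁻¹
      rwa [inv_inv] at this⟩ ≠ 1) : Van x := by
  have := Fintype.ofFinite D
  obtain ⟨n, ρ, hρ, h0⟩ := exists_rep_sum_eq_zero N lam D hDN hD
  exact ⟨⟨_, n, ρ, hρ, rfl⟩, character_eq_zero_of_sum ρ D x hconj h0⟩

end Cfsg.Agent.H727.VanEl
end

-- part: H727/VanReg
section
/-!
# Regular orbits of abelian groups, and vanishing elements of `H \ N`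

* `exists_regular`: a finite abelian group acting faithfully and coprimely on a finite abelian group
  has a regular orbit.
* `van_of_regular`: `N ≤ H` normal subgroups of `G`, `N` abelian, `⁅H, H⁆ ≤ N`, `H / N` a `p`-group,
  `p ∤ |N|`, `C_H(N) ≤ N`: all elements of `H \ N` are vanishing.
-/

set_option autoImplicit false

namespace Cfsg.Agent.H727.VanEl

open Cfsg

/-- A finite abelian group acting faithfully and coprimely on a finite abelian group
has a regular orbit. -/
theorem exists_regular {A V : Type*} [Group A] [CommGroup V] [Finite A] [Finite V]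
    (hA : ∀ a b : A, a * b = b * a) (φ : A →* MulAut V) (hφ : Function.Injective φ)
    (hcop : (Nat.card A).Coprime (Nat.card V)) :
    ∃ v : V, ∀ a : A, φ a v = v → a = 1 := by
  classical
  -- the stabilizer of `v`
  let St : V → Subgroup A := fun v =>
    { carrier := {a | φ a v = v}
      one_mem' := by simp
      mul_mem' := fun {a b} (ha : φ a v = v) (hb : φ b v = v) => by
        change φ (a * b) v = v
        rw [map_mul, MulAut.mul_apply, hb, ha]
      inv_mem' := fun {a} (ha : φ a v = v) => by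
        change φ a⁻¹ v = v
        rw [map_inv]
        nth_rewrite 1 [← ha]
        exact MulAut.inv_apply_self _ _ _ }
  have hSt : ∀ v a, a ∈ St v ↔ φ a v = v := fun v a => Iff.rfl
  suffices h : ∀ n : ℕ, ∀ v : V, Nat.card (St v) = n → ∃ u : V, ∀ a : A, φ a u = u → a = 1 from
    h _ 1 rfl
  intro n
  induction n using Nat.strong_induction_on with
  | _ n ih =>
    intro v hv
    by_cases hT : ∀ a ∈ St v, a = 1
    · exact ⟨v, hT⟩
    · push Not at hT
      obtain ⟨t, htv, ht1⟩ := hT
      have ht2 : φ t ≠ 1 := fun h => ht1 (hφ (by rw [h, map_one]))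
      obtain ⟨u, hu⟩ : ∃ u, φ t u ≠ u := by
        by_contra hcon
        push Not at hcon
        exact ht2 (MulEquiv.ext hcon)
      set T := St v with hTdef
      have hcopT : (Nat.card T).Coprime (Nat.card V) :=
        Nat.Coprime.coprime_dvd_left (Subgroup.card_subgroup_dvd_card T) hcop
      let ψ : T →* MulAut V := φ.comp T.subtype
      obtain ⟨c, w, hc, hw, hcw⟩ :=
        Cfsg.Agent.Lib.CoprimeAbelian.exists_fixed_mul ψ hcopT u
      have hw1 : w ≠ 1 := by
        rintro rfl
        apply hu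
        rw [mul_one] at hcw
        rw [← hcw]
        exact hc ⟨t, htv⟩
      set W := Subgroup.closure {w : V | ∃ a u, w = ψ a u * u⁻¹} with hW
      -- invariance of `W`
      have hWinv : ∀ a : A, ∀ x ∈ W, φ a x ∈ W := by
        intro a x hx
        induction hx using Subgroup.closure_induction with
        | mem x hx =>
          obtain ⟨b, y, rfl⟩ := hx
          apply Subgroup.subset_closure
          refine ⟨b, φ a y, ?_⟩
          rw [map_mul, map_inv]
          congr 1
          change φ a (φ (b : A) y) = φ (b : A) (φ a y)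
          rw [← MulAut.mul_apply, ← MulAut.mul_apply, ← map_mul, ← map_mul, hA]
        | one => rw [map_one]; exact W.one_mem
        | mul x y _ _ hx hy => rw [map_mul]; exact W.mul_mem hx hy
        | inv x _ hx => rw [map_inv]; exact W.inv_mem hx
      have hfixinv : ∀ a : A, ∀ b : T, ψ b (φ a v) = φ a v := by
        intro a b
        change φ (b : A) (φ a v) = φ a v
        rw [← MulAut.mul_apply, ← map_mul, hA, map_mul, MulAut.mul_apply]
        rw [show φ (b : A) v = v from b.2]
      -- the stabilizer of `v * w`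
      have key : ∀ a : A, φ a (v * w) = v * w → φ a v = v ∧ φ a w = w := by
        intro a ha
        rw [map_mul] at ha
        have h1 : v⁻¹ * φ a v = w * (φ a w)⁻¹ := by
          have : φ a v * φ a w = v * w := ha
          calc v⁻¹ * φ a v = v⁻¹ * (φ a v * φ a w) * (φ a w)⁻¹ := by group
            _ = w * (φ a w)⁻¹ := by rw [this]; group
        have h2 : v⁻¹ * φ a v = 1 := by
          refine Cfsg.Agent.Lib.CoprimeAbelian.eq_one_of_fixed_of_mem_closure ψ hcopT _ ?_ ?_
          · intro b
            rw [map_mul, map_inv, hfixinv, show ψ b v = v from b.2]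
          · rw [h1]
            exact W.mul_mem hw (W.inv_mem (hWinv a w hw))
        have h3 : φ a v = v := (inv_mul_eq_one.1 h2).symm
        refine ⟨h3, ?_⟩
        rw [h3] at ha
        exact mul_left_cancel ha
      have hlt : St (v * w) < T := by
        refine lt_of_le_of_ne (fun a ha => (key a ha).1) fun heq => hw1 ?_
        refine Cfsg.Agent.Lib.CoprimeAbelian.eq_one_of_fixed_of_mem_closure ψ hcopT w ?_ hw
        intro b
        have hb : (b : A) ∈ St (v * w) := by rw [heq]; exact b.2
        exact (key b hb).2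
      have hcard : Nat.card (St (v * w)) < n := by
        rw [← hv]
        exact Set.ncard_lt_ncard hlt (Set.toFinite _)
      exact ih _ hcard (v * w) rfl

variable {G : Type*} [Group G]

/-- `N ≤ H` normal subgroups of `G`, `N` abelian, `⁅H, H⁆ ≤ N`, `H / N` a `p`-group, `p ∤ |N|`,
`C_H(N) ≤ N`: all elements of `H \ N` are vanishing. -/
theorem van_of_regular [Finite G] {p : ℕ} [hp : Fact p.Prime] (N H : Subgroup G) [hN : N.Normal]
    [hH : H.Normal]
    (hNab : ∀ x ∈ N, ∀ y ∈ N, x * y = y * x) (hNp : ¬ p ∣ Nat.card N)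
    (hHN : ∀ x ∈ H, ∀ y ∈ H, x * y * x⁻¹ * y⁻¹ ∈ N)
    (hHp : ∀ x ∈ H, ∃ k : ℕ, x ^ p ^ k ∈ N)
    (hC : ∀ x ∈ H, (∀ n ∈ N, x * n = n * x) → x ∈ N) (x : G) (hx : x ∈ H) (hxN : x ∉ N) :
    Van x := by
  classical
  let _inst : CommGroup N := { (inferInstance : Group N) with
    mul_comm := fun a b => Subtype.ext (hNab a a.2 b b.2) }
  -- the action of `H` on `N`
  let c : H →* MulAut N := MulAut.conjNormal.comp H.subtype
  have hc : ∀ (h : H) (n : N), ((c h n : N) : G) = (h : G) * n * (h : G)⁻¹ := by
    intro h n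
    rw [show c h n = MulAut.conjNormal (h : G) n from rfl, MulAut.conjNormal_apply]
  have hc1 : ∀ h : H, c h = 1 ↔ (h : G) ∈ N := by
    intro h
    constructor
    · intro h1
      apply hC h h.2
      intro n hn
      have h2 := hc h ⟨n, hn⟩
      rw [h1] at h2
      simp only [MulAut.one_apply] at h2
      rw [eq_mul_inv_iff_mul_eq] at h2
      exact h2.symm
    · intro h1
      ext n
      rw [hc, MulAut.one_apply, hNab _ h1 _ n.2, mul_inv_cancel_right]
  let A : Subgroup (MulAut N) := c.range
  have hAcomm : ∀ a b : A, a * b = b * a := by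
    rintro ⟨_, h, rfl⟩ ⟨_, k, rfl⟩
    apply Subtype.ext
    simp only [Subgroup.coe_mul]
    have h1 : c (h * k * h⁻¹ * k⁻¹) = 1 := by
      rw [hc1]
      exact hHN h h.2 k k.2
    rw [map_mul, map_mul, map_mul, map_inv, map_inv] at h1
    calc c h * c k = (c h * c k * (c h)⁻¹ * (c k)⁻¹) * (c k * c h) := by group
      _ = c k * c h := by rw [h1, one_mul]
  have hAp : IsPGroup p A := by
    rintro ⟨_, h, rfl⟩
    obtain ⟨k, hk⟩ := hHp h h.2
    refine ⟨k, Subtype.ext ?_⟩
    simp only [Subgroup.coe_pow, Subgroup.coe_one]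
    rw [← map_pow, hc1]
    exact hk
  -- the dual group
  have hfinV : Finite (N →* ℂˣ) := inferInstance
  have hcardV : Nat.card (N →* ℂˣ) = Nat.card N :=
    CommGroup.card_monoidHom_of_hasEnoughRootsOfUnity N ℂ
  have hcop : (Nat.card A).Coprime (Nat.card (N →* ℂˣ)) := by
    rw [hcardV]
    obtain ⟨k, hk⟩ := IsPGroup.iff_card.1 hAp
    rw [hk]
    exact Nat.Coprime.pow_left _ ((Nat.Prime.coprime_iff_not_dvd hp.out).2 hNp)
  let φ : A →* MulAut (N →* ℂˣ) :=
    { toFun := fun a =>
        { toFun := fun l => l.comp ((a : MulAut N)⁻¹ : MulAut N).toMonoidHom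
          invFun := fun l => l.comp (a : MulAut N).toMonoidHom
          left_inv := fun l => by
            ext n
            simp
          right_inv := fun l => by
            ext n
            simp
          map_mul' := fun l m => by
            ext n
            simp }
      map_one' := by
        ext l n
        simp
      map_mul' := fun a b => by
        ext l n
        simp [mul_inv_rev] }
  have hφa : ∀ (a : A) (l : N →* ℂˣ) (n : N), φ a l n = l ((a : MulAut N)⁻¹ n) := fun a l n => rfl
  have hφ : Function.Injective φ := by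
    rw [injective_iff_map_eq_one]
    intro a ha
    by_contra hne
    have h1 : ((a : MulAut N)⁻¹ : MulAut N) ≠ 1 := by
      intro h
      apply hne
      apply Subtype.ext
      rw [inv_eq_one] at h
      exact h
    obtain ⟨n, hn⟩ : ∃ n, (a : MulAut N)⁻¹ n ≠ n := by
      by_contra hcon
      push Not at hcon
      exact h1 (MulEquiv.ext hcon)
    have h2 : (a : MulAut N)⁻¹ n * n⁻¹ ≠ 1 := by
      intro h
      exact hn (mul_inv_eq_one.1 h)
    obtain ⟨l, hl⟩ := CommGroup.exists_apply_ne_one_of_hasEnoughRootsOfUnity N ℂ h2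
    apply hl
    rw [map_mul, map_inv, mul_inv_eq_one]
    have h3 := congrArg (fun F : MulAut (N →* ℂˣ) => F l n) ha
    exact h3
  obtain ⟨lam, hlam⟩ := exists_regular hAcomm φ hφ hcop
  -- `lam` is not invariant under any element of `H \ N`
  have hlamH : ∀ y ∈ H, (∀ n : N, lam (MulAut.conjNormal y n) = lam n) → y ∈ N := by
    intro y hy h1
    have h2 := hlam (⟨c ⟨y, hy⟩, ⟨y, hy⟩, rfl⟩ : A) ?_
    · have h3 := congrArg Subtype.val h2
      exact (hc1 ⟨y, hy⟩).1 h3
    · ext n
      rw [hφa]
      have h4 := h1 ((c ⟨y, hy⟩)⁻¹ n)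
      have h5 : MulAut.conjNormal y ((c ⟨y, hy⟩)⁻¹ n) = n := by
        change (c ⟨y, hy⟩) ((c ⟨y, hy⟩)⁻¹ n) = n
        rw [MulAut.apply_inv_self]
      rw [h5] at h4
      rw [← h4]
  -- the subgroup `[N, x]`
  let f : N →* N :=
    { toFun := fun n => n * (MulAut.conjNormal x n)⁻¹
      map_one' := by simp
      map_mul' := fun a b => by
        rw [map_mul, mul_inv]
        rw [mul_mul_mul_comm] }
  have hf : ∀ n : N, ((f n : N) : G) = n * (x * (n : G)⁻¹ * x⁻¹) := by
    intro n
    change ((n * (MulAut.conjNormal x n)⁻¹ : N) : G) = _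
    rw [Subgroup.coe_mul, ← map_inv, MulAut.conjNormal_apply, Subgroup.coe_inv]
  let D : Subgroup G := f.range.map N.subtype
  have hDN : D ≤ N := by
    rintro _ ⟨_, ⟨n, rfl⟩, rfl⟩
    exact (f n).2
  refine van_of_lam N lam D hDN x ?_ ?_
  · rintro _ ⟨_, ⟨n, rfl⟩, rfl⟩
    rw [isConj_iff]
    refine ⟨n, ?_⟩
    rw [Subgroup.coe_subtype, hf]
    group
  · intro g
    by_contra hcon
    push Not at hcon
    have hy : g⁻¹ * x * g ∈ H := by
      have := hH.conj_mem x hx g⁻¹
      rwa [inv_inv] at this
    have hyN : g⁻¹ * x * g ∈ N := by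
      apply hlamH _ hy
      intro n
      -- `m = g n g⁻¹`
      have hm : g * (n : G) * g⁻¹ ∈ N := hN.conj_mem n n.2 g
      have h1 := hcon (f ⟨g * (n : G) * g⁻¹, hm⟩ : N) ⟨_, ⟨_, rfl⟩, rfl⟩
      have h2 : (⟨g⁻¹ * ((f ⟨g * (n : G) * g⁻¹, hm⟩ : N) : G) * g, by
          have := hN.conj_mem _ (f ⟨g * (n : G) * g⁻¹, hm⟩ : N).2 g⁻¹
          rwa [inv_inv] at this⟩ : N) = n * (MulAut.conjNormal (g⁻¹ * x * g) n)⁻¹ := by
        apply Subtype.ext
        simp only
        rw [hf, Subgroup.coe_mul, ← map_inv, MulAut.conjNormal_apply, Subgroup.coe_inv]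
        simp only
        group
      rw [h2, map_mul, map_inv, mul_inv_eq_one] at h1
      exact h1.symm
    apply hxN
    have := hN.conj_mem _ hyN g
    have h6 : g * (g⁻¹ * x * g) * g⁻¹ = x := by group
    rwa [h6] at this

end Cfsg.Agent.H727.VanEl
end
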