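import Mathlib
import Cfsg.Prelude.Def_Solvable
import Cfsg.Agent.Lib.Cores
import Cfsg.Agent.Lib.CoprimeAbelian
import Cfsg.Agent.Lib.SolvableMinNormal
import Cfsg.Agent.S0058
import Cfsg.Agent.H727.VanReg
set_option linter.all false

-- part: H727/VanSolv
section
/-!
# Solvable groups with at most one class of `p`-singular vanishing elements

* `not_dvd_index_pCore` : if no `p`-singular element is vanishing, `G` has a normal Sylow `p`-subgroup.
* `not_sq_dvd_index_pCore` : if all `p`-singular vanishing elements are conjugate,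
  then `p ^ 2` does not divide `|G : O_p(G)|`.
-/

set_option autoImplicit false

namespace Cfsg.Agent.H727.VanEl

open Cfsg

variable {G : Type*} [Group G]

/-- `G` has no vanishing elements of order divisible by `p`. -/
def NoVan (p : ℕ) (G : Type*) [Group G] : Prop := ∀ x : G, Van x → ¬ p ∣ orderOf x

/-- The vanishing elements of order divisible by `p` are all conjugate. -/
def OneVan (p : ℕ) (G : Type*) [Group G] : Prop :=
  ∀ x y : G, Van x → p ∣ orderOf x → Van y → p ∣ orderOf y → IsConj x y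

theorem noVan_quotient {p : ℕ} (h : NoVan p G) (N : Subgroup G) [N.Normal] : NoVan p (G ⧸ N) := by
  intro x hx hp
  obtain ⟨x, rfl⟩ := QuotientGroup.mk_surjective x
  exact h x (van_of_mk hx) (hp.trans (orderOf_map_dvd (QuotientGroup.mk' N) x))

theorem oneVan_quotient {p : ℕ} (h : OneVan p G) (N : Subgroup G) [N.Normal] :
    OneVan p (G ⧸ N) := by
  intro x y hx hpx hy hpy
  obtain ⟨x, rfl⟩ := QuotientGroup.mk_surjective x
  obtain ⟨y, rfl⟩ := QuotientGroup.mk_surjective y
  exact (QuotientGroup.mk' N).map_isConj (h x y (van_of_mk hx)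
    (hpx.trans (orderOf_map_dvd (QuotientGroup.mk' N) x))
    (van_of_mk hy) (hpy.trans (orderOf_map_dvd (QuotientGroup.mk' N) y)))

/-- A normal nilpotent subgroup has order prime to `p` if `O_p(G) = 1`. -/
theorem not_dvd_card_of_nilpotent [Finite G] {p : ℕ} [hp : Fact p.Prime] (hO : pCore p G = ⊥)
    (C : Subgroup G) (hC : C.Normal) (hnil : Group.IsNilpotent C) : ¬ p ∣ Nat.card C := by
  intro hdvd
  obtain ⟨P⟩ : Nonempty (Sylow p C) := inferInstance
  have hPn : (P : Subgroup C).Normal :=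
    ((Group.isNilpotent_of_finite_tfae (G := C)).out 0 3 rfl rfl).mp hnil p hp P
  have h1 : (P : Subgroup C) ≤ pCore p C := Cfsg.Agent.Lib.Cores.le_pCore hPn P.isPGroup'
  have h2 := Cfsg.Agent.Lib.Cores.map_subtype_pCore p hC
  rw [hO, inf_bot_eq, Subgroup.map_eq_bot_iff_of_injective _ C.subtype_injective] at h2
  rw [h2, le_bot_iff] at h1
  have h3 := P.dvd_card_of_dvd_card hdvd
  rw [h1, Subgroup.card_bot] at h3
  exact hp.out.one_lt.ne' (Nat.dvd_one.1 h3)

/-- `C_H(N) ≤ N` if `O_p(G) = 1`, `N` abelian, `H / N` an abelian `p`-group. -/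
theorem mem_of_centralize [Finite G] {p : ℕ} [hp : Fact p.Prime] (hO : pCore p G = ⊥)
    (N H : Subgroup G) [hN : N.Normal] [hH : H.Normal] (hNH : N ≤ H)
    (hNab : ∀ x ∈ N, ∀ y ∈ N, x * y = y * x)
    (hHN : ∀ x ∈ H, ∀ y ∈ H, x * y * x⁻¹ * y⁻¹ ∈ N)
    (hHp : ∀ x ∈ H, ∃ k : ℕ, x ^ p ^ k ∈ N) (x : G) (hx : x ∈ H)
    (hxc : ∀ n ∈ N, x * n = n * x) : x ∈ N := by
  classical
  let C : Subgroup G := H ⊓ Subgroup.centralizer (N : Set G)
  have hCn : C.Normal := inferInstance
  have hmemC : ∀ y, y ∈ C ↔ y ∈ H ∧ ∀ n ∈ N, y * n = n * y := by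
    intro y
    rw [Subgroup.mem_inf, Subgroup.mem_centralizer_iff]
    exact ⟨fun h => ⟨h.1, fun n hn => (h.2 n hn).symm⟩, fun h => ⟨h.1, fun n hn => (h.2 n hn).symm⟩⟩
  have hNC : N ≤ C := fun n hn => (hmemC n).2 ⟨hNH hn, fun m hm => hNab n hn m hm⟩
  let M : Subgroup C := N.subgroupOf C
  have hMn : M.Normal := inferInstance
  have hcomm : ∀ a b : C ⧸ M, a * b = b * a := by
    intro a b
    obtain ⟨a, rfl⟩ := QuotientGroup.mk_surjective a
    obtain ⟨b, rfl⟩ := QuotientGroup.mk_surjective b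
    rw [← QuotientGroup.mk_mul, ← QuotientGroup.mk_mul, QuotientGroup.eq]
    change ((a * b)⁻¹ * (b * a) : C) ∈ N.subgroupOf C
    rw [Subgroup.mem_subgroupOf]
    have h1 := hHN (b : G)⁻¹ (H.inv_mem ((hmemC b).1 b.2).1) (a : G)⁻¹
      (H.inv_mem ((hmemC a).1 a.2).1)
    have h2 : (((a * b)⁻¹ * (b * a) : C) : G) = (b : G)⁻¹ * (a : G)⁻¹ * ((b : G)⁻¹)⁻¹ * ((a : G)⁻¹)⁻¹ := by
      push_cast
      group
    rw [h2]
    exact h1
  have hnilq : Group.IsNilpotent (C ⧸ M) := by
    let _i : CommGroup (C ⧸ M) := { (inferInstance : Group (C ⧸ M)) with mul_comm := hcomm }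
    infer_instance
  have hnil : Group.IsNilpotent C := by
    refine Subgroup.isNilpotent_of_ker_le_center (QuotientGroup.mk' M) ?_
    rw [QuotientGroup.ker_mk']
    intro m hm
    rw [Subgroup.mem_center_iff]
    intro g
    apply Subtype.ext
    push_cast
    exact ((hmemC g).1 g.2).2 m (Subgroup.mem_subgroupOf.1 hm)
  have hcard := not_dvd_card_of_nilpotent hO C hCn hnil
  obtain ⟨k, hk⟩ := hHp x hx
  have hxC : x ∈ C := (hmemC x).2 ⟨hx, hxc⟩
  have h1 := Cfsg.Agent.Lib.CoprimeAbelian.mem_of_pow_mem_coprime (W := C) (n := p ^ k)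
    (Nat.Coprime.pow_left _ ((Nat.Prime.coprime_iff_not_dvd hp.out).2 hcard)) M ⟨x, hxC⟩
    (by rw [Subgroup.mem_subgroupOf]; exact hk)
  exact Subgroup.mem_subgroupOf.1 h1

/-- `O_p(G) = 1`, `N` an abelian normal subgroup, `Z` an abelian normal `p`-subgroup of `G ⧸ N`:
elements over the nontrivial elements of `Z` are vanishing of order divisible by `p`. -/
theorem van_comap [Finite G] {p : ℕ} [hp : Fact p.Prime] (hO : pCore p G = ⊥)
    (N : Subgroup G) [hN : N.Normal] (hNab : ∀ x ∈ N, ∀ y ∈ N, x * y = y * x)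
    (Z : Subgroup (G ⧸ N)) [hZ : Z.Normal] (hZab : ∀ x ∈ Z, ∀ y ∈ Z, x * y = y * x)
    (hZp : IsPGroup p Z) (x : G) (hx : (QuotientGroup.mk x : G ⧸ N) ∈ Z)
    (hx1 : (QuotientGroup.mk x : G ⧸ N) ≠ 1) : Van x ∧ p ∣ orderOf x := by
  have hNp : ¬ p ∣ Nat.card N := by
    refine not_dvd_card_of_nilpotent hO N hN ?_
    let _i : CommGroup N := { (inferInstance : Group N) with
      mul_comm := fun a b => Subtype.ext (hNab a a.2 b b.2) }
    infer_instance
  let H : Subgroup G := Z.comap (QuotientGroup.mk' N)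
  have hHn : H.Normal := inferInstance
  have hmem : ∀ y, y ∈ H ↔ (QuotientGroup.mk y : G ⧸ N) ∈ Z := fun y => Iff.rfl
  have hNH : N ≤ H := by
    intro n hn
    rw [hmem, (QuotientGroup.eq_one_iff n).2 hn]
    exact Z.one_mem
  have hHN : ∀ x ∈ H, ∀ y ∈ H, x * y * x⁻¹ * y⁻¹ ∈ N := by
    intro a ha b hb
    rw [← QuotientGroup.eq_one_iff]
    have h1 : (QuotientGroup.mk a : G ⧸ N) * QuotientGroup.mk b =
        QuotientGroup.mk b * QuotientGroup.mk a := hZab _ ha _ hb
    simp only [QuotientGroup.mk_mul, QuotientGroup.mk_inv]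
    rw [h1]
    group
  have hHp : ∀ x ∈ H, ∃ k : ℕ, x ^ p ^ k ∈ N := by
    intro a ha
    obtain ⟨k, hk⟩ := hZp ⟨_, ha⟩
    refine ⟨k, ?_⟩
    rw [← QuotientGroup.eq_one_iff, QuotientGroup.mk_pow]
    exact congrArg Subtype.val hk
  have hxN : x ∉ N := fun h => hx1 ((QuotientGroup.eq_one_iff x).2 h)
  refine ⟨van_of_regular (p := p) N H hNab hNp hHN hHp
    (mem_of_centralize hO N H hNH hNab hHN hHp) x hx hxN, ?_⟩
  by_contra hnd
  apply hxN
  obtain ⟨k, hk⟩ := hHp x hx
  have hcop : (p ^ k).Coprime (orderOf x) :=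
    Nat.Coprime.pow_left _ ((Nat.Prime.coprime_iff_not_dvd hp.out).2 hnd)
  have h1 := Cfsg.Agent.Lib.CoprimeAbelian.mem_of_pow_mem_coprime (W := Subgroup.zpowers x)
    (n := p ^ k) (by rw [Nat.card_zpowers]; exact hcop) (N.subgroupOf (Subgroup.zpowers x))
    ⟨x, Subgroup.mem_zpowers x⟩ (by rw [Subgroup.mem_subgroupOf]; exact hk)
  exact Subgroup.mem_subgroupOf.1 h1

/-- The extraspecial situation: `A ≤ B` normal, `|A| = p`, `A` central in `B`, `⁅B, B⁆ ≤ A`:
every `x ∈ B` not central in `B` is a vanishing element. -/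
theorem van_extraspecial [Finite G] {p : ℕ} [hp : Fact p.Prime] (A B : Subgroup G)
    [hA : A.Normal] (hcard : Nat.card A = p)
    (hcent : ∀ a ∈ A, ∀ b ∈ B, a * b = b * a)
    (hcomm : ∀ x ∈ B, ∀ y ∈ B, x * y * x⁻¹ * y⁻¹ ∈ A) (x y : G) (hx : x ∈ B) (hy : y ∈ B)
    (hxy : x * y ≠ y * x) : Van x := by
  classical
  -- the commutator
  set z : G := y * x * y⁻¹ * x⁻¹ with hz
  have hzA : z ∈ A := hcomm y hy x hx
  have hz1 : z ≠ 1 := by
    intro h
    apply hxy
    rw [hz] at h
    have : y * x * y⁻¹ * x⁻¹ * (x * y) = x * y := by rw [h, one_mul]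
    rw [← this]
    group
  have hAcomm : ∀ a b : A, a * b = b * a := by
    have : IsCyclic A := isCyclic_of_prime_card hcard
    intro a b
    let _i := IsCyclic.commGroup (α := A)
    exact mul_comm a b
  let _i : CommGroup A := { (inferInstance : Group A) with mul_comm := hAcomm }
  have hz1' : (⟨z, hzA⟩ : A) ≠ 1 := fun h => hz1 (congrArg Subtype.val h)
  obtain ⟨lam, hlam⟩ := CommGroup.exists_apply_ne_one_of_hasEnoughRootsOfUnity A ℂ hz1'
  refine van_of_lam A lam A le_rfl x ?_ ?_
  · intro d hd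
    have hpow : (⟨d, hd⟩ : A) ∈ Submonoid.powers (⟨z, hzA⟩ : A) :=
      mem_powers_of_prime_card hcard hz1'
    obtain ⟨i, hi⟩ := hpow
    have hi' : z ^ i = d := congrArg Subtype.val hi
    rw [isConj_iff]
    refine ⟨y ^ i, ?_⟩
    rw [← hi']
    have hyx : y * x = z * x * y := by rw [hz]; group
    have hzy : y * z = z * y := (hcent z hzA y hy).symm
    have h1 : ∀ j : ℕ, y ^ j * x = z ^ j * x * y ^ j := by
      intro j
      induction j with
      | zero => simp
      | succ j ih =>
        have h2 : y * z ^ j = z ^ j * y := (Commute.pow_right (a := y) (b := z) hzy j)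
        calc y ^ (j + 1) * x = y * (y ^ j * x) := by rw [pow_succ']; group
          _ = (y * z ^ j) * x * y ^ j := by rw [ih]; group
          _ = z ^ j * (y * x) * y ^ j := by rw [h2]; group
          _ = z ^ j * (z * x * y) * y ^ j := by rw [hyx]
          _ = z ^ (j + 1) * x * y ^ (j + 1) := by rw [pow_succ z, pow_succ' y]; group
    rw [h1 i]
    group
  · intro g
    refine ⟨g * z * g⁻¹, hA.conj_mem z hzA g, ?_⟩
    have h3 : ∀ (h : g⁻¹ * (g * z * g⁻¹) * g ∈ A),
        (⟨g⁻¹ * (g * z * g⁻¹) * g, h⟩ : A) = ⟨z, hzA⟩ := by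
      intro h
      apply Subtype.ext
      simp only
      group
    rw [h3]
    exact hlam

/-- **No vanishing elements of order divisible by `p`**: the Sylow `p`-subgroup is normal. -/
theorem not_dvd_index_pCore {p : ℕ} [hp : Fact p.Prime] (n : ℕ) :
    ∀ (G : Type*) [Group G] [Finite G], Nat.card G = n → Group.IsSolvable G → NoVan p G →
      ¬ p ∣ (pCore p G).index := by
  induction n using Nat.strong_induction_on with
  | _ n ih =>
    intro G _ _ hn hsolv h0
    by_cases hO : pCore p G = ⊥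
    · -- `O_p(G) = 1`
      rw [hO, Subgroup.index_bot]
      rcases subsingleton_or_nontrivial G with hG | hG
      · rw [Nat.card_of_subsingleton (1 : G)]
        exact fun h => hp.out.one_lt.ne' (Nat.dvd_one.1 h)
      · obtain ⟨N, hNc, hNab, hNbot⟩ :=
          Cfsg.Agent.Lib.SolvableMinNormal.exists_characteristic_abelian (G := G)
        have hNn : N.Normal := inferInstance
        have hNab' : ∀ x ∈ N, ∀ y ∈ N, x * y = y * x := fun x hx y hy =>
          congrArg Subtype.val (hNab.is_comm.comm (⟨x, hx⟩ : N) ⟨y, hy⟩)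
        have hNp : ¬ p ∣ Nat.card N := by
          refine not_dvd_card_of_nilpotent hO N hNn ?_
          let _i : CommGroup N := { (inferInstance : Group N) with
            mul_comm := fun a b => Subtype.ext (hNab' a a.2 b b.2) }
          infer_instance
        have hlt : Nat.card (G ⧸ N) < n := by
          rw [← hn, ← Subgroup.index_eq_card, ← N.index_mul_card]
          exact lt_mul_of_one_lt_right (Nat.pos_of_ne_zero N.index_ne_zero_of_finite)
            ((Subgroup.one_lt_card_iff_ne_bot N).2 hNbot)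
        have h1 := ih _ hlt (G ⧸ N) rfl inferInstance (noVan_quotient h0 N)
        by_cases hQ : pCore p (G ⧸ N) = ⊥
        · rw [hQ, Subgroup.index_bot, ← Subgroup.index_eq_card] at h1
          rw [← N.index_mul_card]
          intro h
          rcases (hp.out.dvd_mul).1 h with h | h
          · exact h1 h
          · exact hNp h
        · exfalso
          -- the centre of `O_p(G / N)`
          have hQp := Cfsg.Agent.Lib.Cores.pCore_isPGroup (G := G ⧸ N) p
          have hnt : Nontrivial (pCore p (G ⧸ N)) := (Subgroup.nontrivial_iff_ne_bot _).2 hQ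
          have hct : Nontrivial (Subgroup.center (pCore p (G ⧸ N))) := hQp.center_nontrivial
          obtain ⟨⟨⟨x, hxQ⟩, hxc⟩, hx1⟩ := exists_ne (1 : Subgroup.center (pCore p (G ⧸ N)))
          let Z : Subgroup (G ⧸ N) := (Subgroup.center (pCore p (G ⧸ N))).map (pCore p (G ⧸ N)).subtype
          have hZn : Z.Normal := inferInstance
          have hZab : ∀ x ∈ Z, ∀ y ∈ Z, x * y = y * x := by
            rintro _ ⟨a, ha, rfl⟩ _ ⟨b, hb, rfl⟩
            exact congrArg Subtype.val (Subgroup.mem_center_iff.1 hb a)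
          have hZp : IsPGroup p Z := (hQp.to_subgroup _).map _
          obtain ⟨x, rfl⟩ := QuotientGroup.mk_surjective x
          have h2 := van_comap hO N hNab' Z hZab hZp x ⟨_, hxc, rfl⟩ (by
            intro h
            apply hx1
            exact Subtype.ext (Subtype.ext h))
          exact h0 x h2.1 h2.2
    · have hlt : Nat.card (G ⧸ pCore p G) < n := by
        rw [← hn, ← Subgroup.index_eq_card, ← (pCore p G).index_mul_card]
        exact lt_mul_of_one_lt_right (Nat.pos_of_ne_zero (Subgroup.index_ne_zero_of_finite))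
          ((Subgroup.one_lt_card_iff_ne_bot _).2 hO)
      have h1 := ih _ hlt (G ⧸ pCore p G) rfl inferInstance (noVan_quotient h0 _)
      rw [Cfsg.Agent.Lib.Cores.pCore_quotient_pCore, Subgroup.index_bot,
        ← Subgroup.index_eq_card] at h1
      exact h1

end Cfsg.Agent.H727.VanEl
end

-- part: H727/VanOne
section
/-!
# Solvable groups with exactly one class of `p`-singular vanishing elements

* `not_sq_dvd_index_pCore` : `G` finite solvable, all the vanishing elements of order divisible by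
  `p` conjugate: `p ^ 2` does not divide `|G : O_p(G)|`.
-/

set_option autoImplicit false

namespace Cfsg.Agent.H727.VanEl

open Cfsg

variable {G : Type*} [Group G]

/-- If all the elements of `G` over the nontrivial elements of the abelian normal `p`-subgroup `Z` of
`G ⧸ N` are conjugate (`N` an abelian normal `p'`-subgroup, nontrivial), then `|Z| = p` or `Z = 1`. -/
theorem card_eq_of_conj [Finite G] {p : ℕ} [hp : Fact p.Prime]
    (N : Subgroup G) [hN : N.Normal] (hN1 : N ≠ ⊥) (hNp : ¬ p ∣ Nat.card N)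
    (Z : Subgroup (G ⧸ N)) (hZab : ∀ x ∈ Z, ∀ y ∈ Z, x * y = y * x)
    (hZp : IsPGroup p Z) (hZ1 : Z ≠ ⊥)
    (hconj : ∀ x y : G, (QuotientGroup.mk x : G ⧸ N) ∈ Z → (QuotientGroup.mk x : G ⧸ N) ≠ 1 →
      (QuotientGroup.mk y : G ⧸ N) ∈ Z → (QuotientGroup.mk y : G ⧸ N) ≠ 1 → IsConj x y) :
    Nat.card Z = p := by
  classical
  let H : Subgroup G := Z.comap (QuotientGroup.mk' N)
  have hmem : ∀ y, y ∈ H ↔ (QuotientGroup.mk y : G ⧸ N) ∈ Z := fun y => Iff.rfl
  have hHcard : Nat.card H = Nat.card Z * Nat.card N := by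
    have h1 : H.index = Z.index :=
      Subgroup.index_comap_of_surjective Z (QuotientGroup.mk'_surjective N)
    have h2 := H.index_mul_card
    have h3 := Z.index_mul_card
    have h4 := N.index_mul_card
    rw [Subgroup.index_eq_card N, ← h3, ← h2, h1, mul_assoc] at h4
    exact (Nat.eq_of_mul_eq_mul_left (Nat.pos_of_ne_zero Subgroup.index_ne_zero_of_finite) h4).symm
  obtain ⟨k, hk⟩ := IsPGroup.iff_card.1 hZp
  have hk1 : k ≠ 0 := by
    rintro rfl
    rw [pow_zero] at hk
    exact hZ1 (Subgroup.eq_bot_of_card_eq Z hk)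
  have hpH : p ∣ Nat.card H := by
    rw [hHcard, hk]
    exact Dvd.dvd.mul_right (dvd_pow_self p hk1) _
  -- an element of order `p`
  obtain ⟨y, hy⟩ := exists_prime_orderOf_dvd_card' p hpH
  have hyo : orderOf (y : G) = p := by
    rw [Subgroup.orderOf_coe, hy]
  have hyN : (QuotientGroup.mk (y : G) : G ⧸ N) ≠ 1 := by
    intro h
    rw [QuotientGroup.eq_one_iff] at h
    apply hNp
    have := orderOf_dvd_natCard (⟨(y : G), h⟩ : N)
    rw [← Subgroup.orderOf_coe] at this
    simpa [hyo] using this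
  have hord : ∀ x : G, (QuotientGroup.mk x : G ⧸ N) ∈ Z → (QuotientGroup.mk x : G ⧸ N) ≠ 1 →
      orderOf x = p := by
    intro x hx hx1
    rw [← hyo]
    obtain ⟨c, hc⟩ := isConj_iff.1 (hconj x y hx hx1 y.2 hyN)
    rw [← hc]
    exact ((MulAut.conj c).orderOf_eq x).symm
  -- a Sylow subgroup of `H`
  obtain ⟨P⟩ : Nonempty (Sylow p H) := inferInstance
  let S : Subgroup G := (P : Subgroup H).map H.subtype
  have hSH : S ≤ H := by
    rintro _ ⟨a, _, rfl⟩
    exact a.2
  have hSp : IsPGroup p S := P.isPGroup'.map _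
  have hScard : Nat.card S = Nat.card Z := by
    have h1 : Nat.card S = Nat.card (P : Subgroup H) :=
      (Nat.card_congr ((P : Subgroup H).equivMapOfInjective H.subtype H.subtype_injective).toEquiv).symm
    rw [h1, P.card_eq_multiplicity, hHcard, Nat.factorization_mul Nat.card_pos.ne' Nat.card_pos.ne',
      Finsupp.add_apply, Nat.factorization_eq_zero_of_not_dvd hNp, add_zero, hk,
      Nat.factorization_pow_self hp.out]
  have hSN : ∀ s ∈ S, s ∈ N → s = 1 := by
    intro s hs hsN
    have h1 := hSp ⟨s, hs⟩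
    obtain ⟨j, hj⟩ := h1
    have h2 : s ^ p ^ j = 1 := congrArg Subtype.val hj
    have h3 : (⟨s, hsN⟩ : N) = 1 := by
      refine Cfsg.Agent.Lib.CoprimeAbelian.eq_one_of_pow_coprime (n := p ^ j)
        (Nat.Coprime.pow_left _ ((Nat.Prime.coprime_iff_not_dvd hp.out).2 hNp)) _ ?_
      exact Subtype.ext h2
    exact congrArg Subtype.val h3
  have hScomm : ∀ a ∈ S, ∀ b ∈ S, a * b = b * a := by
    intro a ha b hb
    have h1 : a * b * a⁻¹ * b⁻¹ ∈ N := by
      rw [← QuotientGroup.eq_one_iff]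
      have h2 : (QuotientGroup.mk a : G ⧸ N) * QuotientGroup.mk b =
        QuotientGroup.mk b * QuotientGroup.mk a := hZab _ (hSH ha) _ (hSH hb)
      simp only [QuotientGroup.mk_mul, QuotientGroup.mk_inv]
      rw [h2]
      group
    have h3 := hSN _ (S.mul_mem (S.mul_mem (S.mul_mem ha hb) (S.inv_mem ha)) (S.inv_mem hb)) h1
    rw [mul_inv_eq_one, mul_inv_eq_iff_eq_mul] at h3
    exact h3
  have hSnt : ∀ s ∈ S, s ≠ 1 → (QuotientGroup.mk s : G ⧸ N) ≠ 1 := by
    intro s hs hs1 h
    exact hs1 (hSN s hs ((QuotientGroup.eq_one_iff s).1 h))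
  by_cases hcyc : IsCyclic S
  · obtain ⟨s, hs⟩ := hcyc.exists_generator
    have h1 : orderOf s = Nat.card S := by
      rw [← Nat.card_zpowers]
      rw [show Subgroup.zpowers s = ⊤ from (Subgroup.eq_top_iff' _).2 hs, Subgroup.card_top]
    by_cases hs1 : (s : G) = 1
    · exfalso
      apply hZ1
      have h2 : s = 1 := Subtype.ext hs1
      rw [h2, orderOf_one, hScard] at h1
      exact Subgroup.eq_bot_of_card_eq Z h1.symm
    · have h2 := hord s (hSH s.2) (hSnt s s.2 hs1)
      rw [Subgroup.orderOf_coe, h1, hScard] at h2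
      exact h2
  · exfalso
    have hSc : IsMulCommutative S := ⟨⟨fun a b => Subtype.ext (hScomm a a.2 b b.2)⟩⟩
    have hnorm : S ≤ Subgroup.normalizer (N : Set G) := by
      rw [Subgroup.normalizer_eq_top_iff.2 hN]
      exact le_top
    have hcop : (Nat.card S).Coprime (Nat.card N) := by
      rw [hScard, hk]
      exact Nat.Coprime.pow_left _ ((Nat.Prime.coprime_iff_not_dvd hp.out).2 hNp)
    have h1 := Cfsg.Agent.S0058.result S N hcyc hnorm hcop
    apply hN1
    rw [← h1, eq_bot_iff]
    refine iSup₂_le fun a ha => ?_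
    rintro n ⟨hnN, hnc⟩
    rw [Subgroup.mem_bot]
    have hcomm : a * n = n * a := (Subgroup.mem_centralizer_iff.1 hnc a (Set.mem_singleton a))
    have hmk : (QuotientGroup.mk (a * n) : G ⧸ N) = QuotientGroup.mk a := by
      rw [QuotientGroup.mk_mul, (QuotientGroup.eq_one_iff n).2 hnN, mul_one]
    have h2 : orderOf (a * n) = p := by
      apply hord
      · rw [hmk]
        exact hSH ha.1
      · rw [hmk]
        exact hSnt a ha.1 ha.2
    have h3 : orderOf a = p := hord a (hSH ha.1) (hSnt a ha.1 ha.2)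
    have h4 : (a * n) ^ p = 1 := by rw [← h2]; exact pow_orderOf_eq_one _
    have h5 : a ^ p = 1 := by rw [← h3]; exact pow_orderOf_eq_one _
    have h6 : n ^ p = 1 := by
      have : (a * n) ^ p = a ^ p * n ^ p := (show Commute a n from hcomm).mul_pow p
      rw [h4, h5, one_mul] at this
      exact this.symm
    have h7 : (⟨n, hnN⟩ : N) = 1 :=
      Cfsg.Agent.Lib.CoprimeAbelian.eq_one_of_pow_coprime (n := p)
        ((Nat.Prime.coprime_iff_not_dvd hp.out).2 hNp) _ (Subtype.ext h6)
    exact congrArg Subtype.val h7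

/-- **At most one class of vanishing elements of order divisible by `p`.** -/
theorem not_sq_dvd_index_pCore {p : ℕ} [hp : Fact p.Prime] (n : ℕ) :
    ∀ (G : Type*) [Group G] [Finite G], Nat.card G = n → Group.IsSolvable G → OneVan p G →
      ¬ p ^ 2 ∣ (pCore p G).index := by
  induction n using Nat.strong_induction_on with
  | _ n ih =>
    intro G _ _ hn hsolv h0
    by_cases hO : pCore p G = ⊥
    swap
    · have hlt : Nat.card (G ⧸ pCore p G) < n := by
        rw [← hn, ← Subgroup.index_eq_card, ← (pCore p G).index_mul_card]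
        exact lt_mul_of_one_lt_right (Nat.pos_of_ne_zero (Subgroup.index_ne_zero_of_finite))
          ((Subgroup.one_lt_card_iff_ne_bot _).2 hO)
      have h1 := ih _ hlt (G ⧸ pCore p G) rfl inferInstance (oneVan_quotient h0 _)
      rw [Cfsg.Agent.Lib.Cores.pCore_quotient_pCore, Subgroup.index_bot,
        ← Subgroup.index_eq_card] at h1
      exact h1
    -- `O_p(G) = 1`
    rw [hO, Subgroup.index_bot]
    rcases subsingleton_or_nontrivial G with hG | hG
    · rw [Nat.card_of_subsingleton (1 : G)]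
      intro h
      have := Nat.le_of_dvd one_pos h
      have h2 := hp.out.two_le
      nlinarith
    obtain ⟨N, hNc, hNab, hNbot⟩ :=
      Cfsg.Agent.Lib.SolvableMinNormal.exists_characteristic_abelian (G := G)
    have hNn : N.Normal := inferInstance
    have hNab' : ∀ x ∈ N, ∀ y ∈ N, x * y = y * x := fun x hx y hy =>
      congrArg Subtype.val (hNab.is_comm.comm (⟨x, hx⟩ : N) ⟨y, hy⟩)
    have hNp : ¬ p ∣ Nat.card N := by
      refine not_dvd_card_of_nilpotent hO N hNn ?_
      let _i : CommGroup N := { (inferInstance : Group N) with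
        mul_comm := fun a b => Subtype.ext (hNab' a a.2 b b.2) }
      infer_instance
    have hlt : Nat.card (G ⧸ N) < n := by
      rw [← hn, ← Subgroup.index_eq_card, ← N.index_mul_card]
      exact lt_mul_of_one_lt_right (Nat.pos_of_ne_zero N.index_ne_zero_of_finite)
        ((Subgroup.one_lt_card_iff_ne_bot N).2 hNbot)
    have h1 := ih _ hlt (G ⧸ N) rfl inferInstance (oneVan_quotient h0 N)
    have hcopN : (p ^ 2).Coprime (Nat.card N) :=
      Nat.Coprime.pow_left _ ((Nat.Prime.coprime_iff_not_dvd hp.out).2 hNp)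
    suffices hq : ¬ p ^ 2 ∣ Nat.card (G ⧸ N) by
      rw [← N.index_mul_card, Subgroup.index_eq_card]
      intro h
      exact hq (hcopN.dvd_of_dvd_mul_right h)
    by_cases hQ : pCore p (G ⧸ N) = ⊥
    · rw [hQ, Subgroup.index_bot] at h1
      exact h1
    -- the centre of `O_p(G / N)`
    set Q := pCore p (G ⧸ N) with hQdef
    have hQn : Q.Normal := Cfsg.Agent.Lib.Cores.pCore_normal p
    have hQp : IsPGroup p Q := Cfsg.Agent.Lib.Cores.pCore_isPGroup (G := G ⧸ N) p
    have hnt : Nontrivial Q := (Subgroup.nontrivial_iff_ne_bot _).2 hQ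
    -- normal abelian subgroups inside `Q` consist of vanishing elements
    have hvan : ∀ Y : Subgroup (G ⧸ N), Y.Normal → (∀ x ∈ Y, ∀ y ∈ Y, x * y = y * x) → Y ≤ Q →
        ∀ x : G, (QuotientGroup.mk x : G ⧸ N) ∈ Y → (QuotientGroup.mk x : G ⧸ N) ≠ 1 →
        Van x ∧ p ∣ orderOf x := by
      intro Y hY hYab hYQ x hx hx1
      exact van_comap hO N hNab' Y hYab (hQp.to_le hYQ) x hx hx1
    let Z : Subgroup (G ⧸ N) := (Subgroup.center Q).map Q.subtype
    have hZn : Z.Normal := inferInstance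
    have hZQ : Z ≤ Q := by
      rintro _ ⟨a, _, rfl⟩
      exact a.2
    have hZab : ∀ x ∈ Z, ∀ y ∈ Z, x * y = y * x := by
      rintro _ ⟨a, ha, rfl⟩ _ ⟨b, hb, rfl⟩
      exact congrArg Subtype.val (Subgroup.mem_center_iff.1 hb a)
    have hZp : IsPGroup p Z := hQp.to_le hZQ
    have hZ1 : Z ≠ ⊥ := by
      have hct : Nontrivial (Subgroup.center Q) := hQp.center_nontrivial
      intro h
      have h2 := (Subgroup.map_eq_bot_iff_of_injective _ Q.subtype_injective).1 h
      exact (Subgroup.nontrivial_iff_ne_bot _).1 hct h2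
    have hZcard : Nat.card Z = p :=
      card_eq_of_conj N hNbot hNp Z hZab hZp hZ1 fun x y hx hx1 hy hy1 =>
        h0 x y (hvan Z hZn hZab hZQ x hx hx1).1 (hvan Z hZn hZab hZQ x hx hx1).2
          (hvan Z hZn hZab hZQ y hy hy1).1 (hvan Z hZn hZab hZQ y hy hy1).2
    obtain ⟨z0, hz0, hz01⟩ : ∃ z : G ⧸ N, z ∈ Z ∧ z ≠ 1 := by
      obtain ⟨a, ha⟩ := Subgroup.ne_bot_iff_exists_ne_one.1 hZ1
      exact ⟨a, a.2, fun h => ha (Subtype.ext h)⟩
    obtain ⟨z, rfl⟩ := QuotientGroup.mk_surjective z0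
    have hzv := hvan Z hZn hZab hZQ z hz0 hz01
    -- all `p`-singular vanishing elements lie over `Z`
    have hin : ∀ x : G, Van x → p ∣ orderOf x → (QuotientGroup.mk x : G ⧸ N) ∈ Z := by
      intro x hx hxp
      obtain ⟨c, hc⟩ := isConj_iff.1 (h0 z x hzv.1 hzv.2 hx hxp)
      rw [← hc]
      simp only [QuotientGroup.mk_mul, QuotientGroup.mk_inv]
      exact hZn.conj_mem _ hz0 _
    -- uniqueness
    have huniq : ∀ Y : Subgroup (G ⧸ N), Y.Normal → (∀ x ∈ Y, ∀ y ∈ Y, x * y = y * x) → Y ≤ Q →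
        Y ≤ Z := by
      intro Y hY hYab hYQ y hy
      by_cases hy1 : y = 1
      · rw [hy1]; exact Z.one_mem
      obtain ⟨y, rfl⟩ := QuotientGroup.mk_surjective y
      have h2 := hvan Y hY hYab hYQ y hy hy1
      exact hin y h2.1 h2.2
    -- `Q = Z`
    have hQZ : Q = Z := by
      by_contra hne
      -- the centre of `Q / Z(Q)`
      have hcne : Subgroup.center Q ≠ ⊤ := by
        intro h
        apply hne
        apply le_antisymm _ hZQ
        intro q hq
        exact ⟨⟨q, hq⟩, by rw [h]; exact Subgroup.mem_top _, rfl⟩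
      have hnt2 : Nontrivial (Q ⧸ Subgroup.center Q) := QuotientGroup.nontrivial_iff.2 hcne
      have hqp2 : IsPGroup p (Q ⧸ Subgroup.center Q) := hQp.to_quotient _
      have hct2 : Nontrivial (Subgroup.center (Q ⧸ Subgroup.center Q)) := hqp2.center_nontrivial
      obtain ⟨⟨x, hxc⟩, hx1⟩ := exists_ne (1 : Subgroup.center (Q ⧸ Subgroup.center Q))
      obtain ⟨x, rfl⟩ := QuotientGroup.mk_surjective x
      have hxnc : x ∉ Subgroup.center Q := by
        intro h
        apply hx1
        exact Subtype.ext ((QuotientGroup.eq_one_iff x).2 h)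
      let B0 : Subgroup Q := Subgroup.upperCentralSeries Q 2
      have hB0n : B0.Characteristic := inferInstance
      have hB0 : ∀ b : Q, b ∈ B0 ↔ ∀ y : Q, b * y * b⁻¹ * y⁻¹ ∈ Subgroup.center Q := by
        intro b
        change b ∈ Subgroup.upperCentralSeries Q (1 + 1) ↔ _
        rw [Subgroup.mem_upperCentralSeries_succ_iff]
        rw [Subgroup.upperCentralSeries_one]
        rfl
      have hxB0 : x ∈ B0 := by
        rw [hB0]
        intro y
        rw [← QuotientGroup.eq_one_iff]
        simp only [QuotientGroup.mk_mul, QuotientGroup.mk_inv]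
        have h2 := Subgroup.mem_center_iff.1 hxc (QuotientGroup.mk y)
        rw [← h2]
        group
      let B : Subgroup (G ⧸ N) := B0.map Q.subtype
      have hBn : B.Normal := inferInstance
      have hBQ : B ≤ Q := by
        rintro _ ⟨a, _, rfl⟩
        exact a.2
      have hxB : (x : G ⧸ N) ∈ B := ⟨x, hxB0, rfl⟩
      -- the centre of `B`
      let C : Subgroup (G ⧸ N) := (Subgroup.center B).map B.subtype
      have hCn : C.Normal := inferInstance
      have hCQ : C ≤ Q := by
        rintro _ ⟨a, _, rfl⟩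
        exact hBQ a.2
      have hCab : ∀ x ∈ C, ∀ y ∈ C, x * y = y * x := by
        rintro _ ⟨a, ha, rfl⟩ _ ⟨b, hb, rfl⟩
        exact congrArg Subtype.val (Subgroup.mem_center_iff.1 hb a)
      have hCZ := huniq C hCn hCab hCQ
      have hxZ : (x : G ⧸ N) ∉ Z := by
        rintro ⟨a, ha, hax⟩
        apply hxnc
        have : a = x := Subtype.ext hax
        rw [← this]
        exact ha
      have hxC : (⟨(x : G ⧸ N), hxB⟩ : B) ∉ Subgroup.center B := fun h =>
        hxZ (hCZ ⟨_, h, rfl⟩)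
      obtain ⟨y, hy⟩ : ∃ y : B, ¬ (y * ⟨(x : G ⧸ N), hxB⟩ = ⟨(x : G ⧸ N), hxB⟩ * y) := by
        by_contra hcon
        push Not at hcon
        exact hxC (Subgroup.mem_center_iff.2 hcon)
      have hvx : Van (x : G ⧸ N) := by
        refine van_extraspecial Z B hZcard ?_ ?_ (x : G ⧸ N) (y : G ⧸ N) hxB y.2 ?_
        · rintro _ ⟨a, ha, rfl⟩ b hb
          exact (congrArg Subtype.val (Subgroup.mem_center_iff.1 ha ⟨b, hBQ hb⟩)).symm
        · rintro _ ⟨a, ha, rfl⟩ _ ⟨b, hb, rfl⟩
          refine ⟨a * b * a⁻¹ * b⁻¹, (hB0 a).1 ha b, ?_⟩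
          simp
        · intro h
          apply hy
          exact Subtype.ext h.symm
      obtain ⟨w, hw⟩ := QuotientGroup.mk_surjective (x : G ⧸ N)
      rw [← hw] at hvx hxZ
      apply hxZ
      refine hin w (van_of_mk hvx) ?_
      have hwp : p ∣ orderOf (QuotientGroup.mk w : G ⧸ N) := by
        rw [hw, Subgroup.orderOf_coe]
        obtain ⟨j, hj⟩ := IsPGroup.iff_orderOf.1 hQp x
        rw [hj]
        refine dvd_pow_self p ?_
        rintro rfl
        rw [pow_zero, orderOf_eq_one_iff] at hj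
        exact hxnc (by rw [hj]; exact Subgroup.one_mem _)
      exact hwp.trans (orderOf_map_dvd (QuotientGroup.mk' N) w)
    have hQcard : Nat.card Q = p := by rw [hQZ]; exact hZcard
    -- no vanishing `p`-singular elements modulo `Q`
    have hno : NoVan p ((G ⧸ N) ⧸ Q) := by
      intro x hx hxp
      obtain ⟨x, rfl⟩ := QuotientGroup.mk_surjective x
      obtain ⟨x, rfl⟩ := QuotientGroup.mk_surjective x
      have h2 := hin x (van_of_mk (van_of_mk hx))
        ((hxp.trans (orderOf_map_dvd (QuotientGroup.mk' Q) _)).trans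
          (orderOf_map_dvd (QuotientGroup.mk' N) x))
      rw [← hQZ] at h2
      rw [(QuotientGroup.eq_one_iff (N := Q) _).2 h2, orderOf_one] at hxp
      exact hp.out.one_lt.ne' (Nat.dvd_one.1 hxp)
    have h3 := not_dvd_index_pCore (p := p) _ ((G ⧸ N) ⧸ Q) rfl inferInstance hno
    have h4 : pCore p ((G ⧸ N) ⧸ Q) = ⊥ := Cfsg.Agent.Lib.Cores.pCore_quotient_pCore p
    rw [h4, Subgroup.index_bot, ← Subgroup.index_eq_card] at h3
    rw [← Q.index_mul_card, hQcard, pow_two]
    intro h
    exact h3 (Nat.dvd_of_mul_dvd_mul_right hp.out.pos h)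

end Cfsg.Agent.H727.VanEl
end
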