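import Mathlib
import Cfsg.Prelude.Def_Characters
import Cfsg.Agent.Characters.Core
import Cfsg.Agent.Characters.Linear
import Cfsg.Agent.CharDeep.PowerDegrees
import Cfsg.Agent.H596.Degree
import Cfsg.Agent.H113.NormTwoChar
import Cfsg.Agent.CharactersDeep.CliffordSum
import Cfsg.Agent.CharactersDeep.NormalInd
import Cfsg.Agent.H670.SL2Odd
import Cfsg.Agent.ClassicalGeometry.PSL2Basic
import Cfsg.Agent.TwoFusion.SimpleOddIndex
import Cfsg.Agent.TwoFusion.SLTwoFacts
import Cfsg.Agent.H438.MaxOrders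
import Cfsg.Agent.S0493
import Cfsg.Agent.SmallSimple.PrimeLocal
import Cfsg.Agent.Prune
set_option linter.all false
prune_inst 0x7f00000000000000000000000000000000000000000000000000000000000000000000000000000000000000000000000000000000000000000000000000000000000000000000000000000000000000003fffffffffffffffffffffffffffbeffbdffffffff
open scoped Cfsg.Agent.FastGrp

-- part: H727/DegCount
section
/-!
# Numbers of irreducible characters of given degree

`cnt G d` is the number of irreducible characters of degree `d`.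

* `sum_cnt` : `∑ d ∈ S, d ^ 2 * cnt G d = |G|` if `S` contains all the degrees;
* `cnt_le` : `cnt H d ≤ cnt G d` for an image `H` of `G`;
* `cnt_one` : `cnt G 1 = |G : G'|`.
-/

set_option autoImplicit false

namespace Cfsg.Agent.H727.DegCount

open Cfsg Cfsg.Agent.Characters.Core

variable {G H : Type*} [Group G] [Group H]

/-- The number of irreducible characters of degree `d`. -/
noncomputable def cnt (G : Type*) [Group G] (d : ℕ) : ℕ :=
  Nat.card {χ : IrrCharacter G // (χ : G → ℂ) 1 = (d : ℂ)}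

theorem cnt_pos [Finite G] (χ : IrrCharacter G) {d : ℕ} (h : (χ : G → ℂ) 1 = (d : ℂ)) :
    0 < cnt G d := by
  have := finite_irr (G := G)
  have : Nonempty {χ : IrrCharacter G // (χ : G → ℂ) 1 = (d : ℂ)} := ⟨⟨χ, h⟩⟩
  exact Nat.card_pos

theorem exists_of_cnt_pos {d : ℕ} (h : 0 < cnt G d) :
    ∃ χ : IrrCharacter G, (χ : G → ℂ) 1 = (d : ℂ) := by
  have : Nonempty {χ : IrrCharacter G // (χ : G → ℂ) 1 = (d : ℂ)} := by
    by_contra h1
    rw [not_nonempty_iff] at h1
    rw [cnt, Nat.card_of_isEmpty] at h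
    omega
  exact ⟨this.some.1, this.some.2⟩

/-- If there is only one character of degree `d` then characters of degree `d` are equal. -/
theorem eq_of_cnt_le_one [Finite G] {d : ℕ} (h : cnt G d ≤ 1) {χ ψ : G → ℂ}
    (hχ : IsIrrCharacter G χ) (hψ : IsIrrCharacter G ψ) (h1 : χ 1 = (d : ℂ)) (h2 : ψ 1 = (d : ℂ)) :
    χ = ψ := by
  have := finite_irr (G := G)
  rw [cnt, Finite.card_le_one_iff_subsingleton] at h
  have := h.elim ⟨⟨χ, hχ⟩, h1⟩ ⟨⟨ψ, hψ⟩, h2⟩
  have h3 := congrArg (fun x => (x.1.1 : G → ℂ)) this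
  exact h3

/-- The sum of the squares of the degrees. -/
theorem sum_cnt [Finite G] (S : Finset ℕ) (hS : ∀ d, 0 < cnt G d → d ∈ S) :
    ∑ d ∈ S, d ^ 2 * cnt G d = Nat.card G := by
  classical
  have := finite_irr (G := G)
  have : Fintype (IrrCharacter G) := Fintype.ofFinite _
  have hex : ∀ χ : IrrCharacter G, ∃ d : ℕ, (χ : G → ℂ) 1 = (d : ℂ) := fun χ => by
    obtain ⟨n, -, hn⟩ := isIrr_apply_one χ.2
    exact ⟨n, hn⟩
  choose dg hdg using hex
  have h1 : ∑ χ : IrrCharacter G, dg χ ^ 2 = Nat.card G := by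
    have h := Cfsg.Agent.CharDeep.PowerDegrees.sum_sq (G := G)
    simp only [hdg] at h
    exact_mod_cast h
  have h2 : ∀ χ ∈ (Finset.univ : Finset (IrrCharacter G)), dg χ ∈ S := fun χ _ =>
    hS _ (cnt_pos χ (hdg χ))
  rw [← h1, ← Finset.sum_fiberwise_of_maps_to h2]
  refine Finset.sum_congr rfl fun d _ => ?_
  have h3 : cnt G d = (Finset.univ.filter fun χ : IrrCharacter G => dg χ = d).card := by
    rw [cnt, Nat.card_eq_fintype_card, Fintype.card_subtype]
    congr 1
    ext χ
    simp only [Finset.mem_filter, Finset.mem_univ, true_and, hdg χ, Nat.cast_inj]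
  rw [h3, Finset.sum_congr rfl (g := fun _ => d ^ 2), Finset.sum_const, smul_eq_mul, mul_comm]
  intro χ hχ
  rw [(Finset.mem_filter.1 hχ).2]

/-- Degrees are at most the group order. -/
theorem le_card_of_cnt_pos [Finite G] {d : ℕ} (h : 0 < cnt G d) : d ^ 2 ≤ Nat.card G := by
  classical
  have := finite_irr (G := G)
  have : Fintype (IrrCharacter G) := Fintype.ofFinite _
  obtain ⟨χ, hχ⟩ := exists_of_cnt_pos h
  have hex : ∀ χ : IrrCharacter G, ∃ d : ℕ, (χ : G → ℂ) 1 = (d : ℂ) := fun χ => by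
    obtain ⟨n, -, hn⟩ := isIrr_apply_one χ.2
    exact ⟨n, hn⟩
  choose dg hdg using hex
  have h1 : ∑ χ : IrrCharacter G, dg χ ^ 2 = Nat.card G := by
    have h := Cfsg.Agent.CharDeep.PowerDegrees.sum_sq (G := G)
    simp only [hdg] at h
    exact_mod_cast h
  have h2 : dg χ = d := by exact_mod_cast (hdg χ).symm.trans hχ
  rw [← h1, ← h2]
  exact Finset.single_le_sum (f := fun χ => dg χ ^ 2) (fun _ _ => Nat.zero_le _) (Finset.mem_univ χ)

/-- Groups with the same degrees have the same order. -/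
theorem card_eq_of_cnt [Finite G] [Finite H] (h : ∀ d, cnt G d = cnt H d) :
    Nat.card G = Nat.card H := by
  have hS : ∀ d, 0 < cnt G d → d ∈ Finset.range (Nat.card G + 1) := fun d hd => by
    rw [Finset.mem_range]
    have := le_card_of_cnt_pos hd
    nlinarith only [this]
  rw [← sum_cnt (Finset.range (Nat.card G + 1)) hS,
    ← sum_cnt (G := H) (Finset.range (Nat.card G + 1)) (fun d hd => hS d (by rw [h]; exact hd))]
  exact Finset.sum_congr rfl fun d _ => by rw [h]

/-- An image of `G` has at most as many characters of each degree. -/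
theorem cnt_le [Finite G] (f : G →* H) (hf : Function.Surjective f) (d : ℕ) :
    cnt H d ≤ cnt G d := by
  have := finite_irr (G := G)
  refine Nat.card_le_card_of_injective
    (fun χ : {χ : IrrCharacter H // (χ : H → ℂ) 1 = (d : ℂ)} =>
      (⟨⟨_, isIrr_comp f hf χ.1.2⟩, by
        show (χ.1 : H → ℂ) (f 1) = d
        rw [map_one]; exact χ.2⟩ : {χ : IrrCharacter G // (χ : G → ℂ) 1 = (d : ℂ)})) ?_
  intro χ ψ h
  have h1 : (χ.1 : H → ℂ) ∘ f = (ψ.1 : H → ℂ) ∘ f := congrArg (fun x => (x.1.1 : G → ℂ)) h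
  apply Subtype.ext
  apply Subtype.ext
  exact hf.injective_comp_right h1

theorem cnt_one [Finite G] : cnt G 1 = (commutator G).index := by
  rw [← Cfsg.Agent.Characters.Linear.card_hom_eq_index_commutator]
  rw [cnt]
  simp only [Nat.cast_one]
  exact (Nat.card_congr (Cfsg.Agent.Characters.Linear.linearEquiv G)).symm

theorem commutator_eq_top_of_cnt [Finite G] (h : cnt G 1 = 1) : commutator G = ⊤ := by
  rw [cnt_one, Subgroup.index_eq_one] at h
  exact h

theorem cnt_one_pos [Finite G] : 0 < cnt G 1 :=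
  cnt_pos ⟨1, isIrr_one⟩ (by simp)

end Cfsg.Agent.H727.DegCount
end

-- part: H727/PslSqNum
section
/-!
# Numbers for the degrees of `PSL(2, q)`, `q = 2 h + 1`, `h` even
-/

set_option autoImplicit false

namespace Cfsg.Agent.H727.PslSqNum

theorem num_dvd {h A B B' C D : ℕ}
    (heq : 1 + A * (2 * h + 1) ^ 2 + B * (h + 1) ^ 2 + B' * h ^ 2 + C * (2 * h + 2) ^ 2 +
      D * (2 * h) ^ 2 = 2 * h * (h + 1) * (2 * h + 1)) :
    ∃ m : ℕ, 4 * (C + D) + (B + B') + 4 = m * (2 * h + 1) := by
  have hdvd : (2 * h + 1 : ℤ) ∣ 4 * (C + D) + (B + B') + 4 := by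
    have heq' : (1 + A * (2 * h + 1) ^ 2 + B * (h + 1) ^ 2 + B' * h ^ 2 +
      C * (2 * h + 2) ^ 2 + D * (2 * h) ^ 2 : ℤ) =
        2 * h * (h + 1) * (2 * h + 1) := by
      exact_mod_cast heq
    refine ⟨8 * h * (h + 1) - 4 * A * (2 * h + 1) - B * (2 * h + 1) - 2 * B
      - B' * (2 * h - 1) - 4 * C * (2 * h + 1) - 8 * C
      - 4 * D * (2 * h - 1), ?_⟩
    linear_combination 4 * heq'
  have h1 : (2 * h + 1) ∣ 4 * (C + D) + (B + B') + 4 := by exact_mod_cast hdvd
  obtain ⟨m, hm⟩ := h1
  exact ⟨m, by rw [hm, mul_comm]⟩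

theorem num_four {A B B' C D : ℕ} (hA : A ≤ 1) (hB : B ≤ 2)
    (hB' : B' ≤ 2) (hC : C + 1 ≤ 4) (hD : D ≤ 4)
    (heq : 1 + A * 81 + B * 25 + B' * 16 + C * 100 + D * 64 = 360) :
    A = 1 ∧ B = 2 ∧ B' = 0 ∧ 2 * C + 2 = 4 ∧ 2 * D = 4 := by
  have h1 : C ≤ 3 := by omega
  clear hC
  interval_cases A <;> interval_cases B <;> interval_cases B' <;> interval_cases C <;> (clear * - hD heq; omega)

/-- The degrees of `PSL(2, q)` inside those of `SL(2, q)`. -/
theorem num_psl {h A B B' C D : ℕ} (h4 : 4 ≤ h) (he : Even h) (hA : A ≤ 1) (hB : B ≤ 2)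
    (hB' : B' ≤ 2) (hC : C + 1 ≤ h) (hD : D ≤ h)
    (heq : 1 + A * (2 * h + 1) ^ 2 + B * (h + 1) ^ 2 + B' * h ^ 2 + C * (2 * h + 2) ^ 2 +
      D * (2 * h) ^ 2 = 2 * h * (h + 1) * (2 * h + 1)) :
    A = 1 ∧ B = 2 ∧ B' = 0 ∧ 2 * C + 2 = h ∧ 2 * D = h := by
  obtain ⟨m, hm⟩ := num_dvd heq
  rcases eq_or_lt_of_le h4 with rfl | h5
  · exact num_four hA hB hB' hC hD (by norm_num at heq; linarith only [heq])
  have h6 : 6 ≤ h := by
    obtain ⟨k, rfl⟩ := he
    omega
  have hu1 : C + D ≤ h + 1 := by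
    by_contra hc
    have hc' : h + 2 ≤ C + D := by omega
    have h2 : (h + 2) * (2 * h) ^ 2 ≤ (C + D) * (2 * h) ^ 2 := Nat.mul_le_mul_right _ hc'
    have h3 : C * (2 * h) ^ 2 ≤ C * (2 * h + 2) ^ 2 := Nat.mul_le_mul_left _ (by linarith only [h6])
    nlinarith only [heq, h6, h2]
  have hu2 : h ≤ C + D + 2 := by
    by_contra hc
    have hc' : C + D + 3 ≤ h := by omega
    have h2 : (C + D + 3) * (2 * h) ^ 2 ≤ h * (2 * h) ^ 2 := Nat.mul_le_mul_right _ hc'
    have h3 : C * (4 * (2 * h + 1)) ≤ (h - 1) * (4 * (2 * h + 1)) := Nat.mul_le_mul_right _ (by omega)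
    obtain ⟨g, rfl⟩ : ∃ g, h = g + 1 := ⟨h - 1, by omega⟩
    have h4 : A * (2 * (g + 1) + 1) ^ 2 ≤ 1 * (2 * (g + 1) + 1) ^ 2 := Nat.mul_le_mul_right _ hA
    have h5 : B * (g + 1 + 1) ^ 2 ≤ 2 * (g + 1 + 1) ^ 2 := Nat.mul_le_mul_right _ hB
    have h6 : B' * (g + 1) ^ 2 ≤ 2 * (g + 1) ^ 2 := Nat.mul_le_mul_right _ hB'
    simp only [Nat.add_sub_cancel] at h3
    nlinarith only [heq, h2, h4, h5, h6]
  have hm2 : m = 2 := by
    have h2 : m < 3 := by
      by_contra hc
      have : 3 * (2 * h + 1) ≤ m * (2 * h + 1) := Nat.mul_le_mul_right _ (by omega)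
      omega
    have h3 : 1 < m := by
      by_contra hc
      have : m * (2 * h + 1) ≤ 1 * (2 * h + 1) := Nat.mul_le_mul_right _ (by omega)
      omega
    omega
  subst hm2
  have hs : B + B' = 2 := by omega
  have hu : C + D + 1 = h := by omega
  obtain ⟨k, hk⟩ := he
  have key : ((4 * C + B + A * (2 * h + 1)) * (2 * h + 1) : ℤ) = (4 * h - 1) * (2 * h + 1) := by
    have heq' : (1 + A * (2 * h + 1) ^ 2 + B * (h + 1) ^ 2 + B' * h ^ 2 +
      C * (2 * h + 2) ^ 2 + D * (2 * h) ^ 2 : ℤ) =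
        2 * h * (h + 1) * (2 * h + 1) := by
      exact_mod_cast heq
    have hB2 : (B' : ℤ) = 2 - B := by omega
    have hD2 : (D : ℤ) = h - 1 - C := by omega
    linear_combination heq' - h ^ 2 * hB2 - 4 * h ^ 2 * hD2
  have key2 : (4 * C + B + A * (2 * h + 1) : ℤ) = 4 * h - 1 :=
    mul_right_cancel₀ (by positivity) key
  have key3 : 4 * C + B + A * (2 * h + 1) + 1 = 4 * h := by
    have : (4 * C + B + A * (2 * h + 1) + 1 : ℤ) = 4 * h := by linarith only [key2]
    exact_mod_cast this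
  have hA' : A = 0 ∨ A = 1 := by omega
  rcases hA' with rfl | rfl
  · omega
  · (clear * - hm hs hk key2; omega)

/-- The quotients of `G`, first case. -/
theorem num_one {h A C D m M : ℕ} (h4 : 4 ≤ h) (he : Even h) (hA' : A = 0 ∨ A = 1)
    (hmM : m * M = 2 * h * (h + 1))
    (hCD : 2 * (C + D) + 2 = h)
    (hm1 : m + 2 * h = h ^ 2 + 2 + 4 * C + A * (2 * h + 1)) :
    A = 0 ∧ h = 4 ∧ C = 0 ∧ D = 1 := by
  obtain ⟨k, hk⟩ := he
  have hs : ∃ s, s = h ^ 2 := ⟨_, rfl⟩
  obtain ⟨s, hs⟩ := hs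
  have hsh : 4 * h ≤ s := by rw [hs, pow_two]; exact Nat.mul_le_mul_right _ h4
  have hmM' : m * M = 2 * s + 2 * h := by rw [hmM, hs]; ring
  rw [← hs] at hm1
  rcases hA' with rfl | rfl
  · -- `A = 0`
    rcases Nat.lt_or_ge M 3 with hM3 | hM3
    · exfalso
      interval_cases M <;> omega
    · have h5 : m * 3 ≤ m * M := Nat.mul_le_mul_left _ hM3
      have h6 : h < 8 := by
        by_contra hc
        have : 8 * h ≤ s := by rw [hs, pow_two]; exact Nat.mul_le_mul_right _ (by omega)
        (clear * - hmM' hm1 h5 this; omega)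
      have h7 : h = 4 ∨ h = 6 := by (clear * - h4 hk h6; omega)
      rcases h7 with rfl | rfl
      · have hCD2 : C = 0 ∨ C = 1 := by omega
        rcases hCD2 with rfl | rfl
        · exact ⟨rfl, rfl, rfl, by omega⟩
        · exfalso
          have : m = 14 := by omega
          subst this
          omega
      · exfalso
        have hCD2 : C = 0 ∨ C = 1 ∨ C = 2 := by omega
        rcases hCD2 with rfl | rfl | rfl
        · have : m = 26 := by omega
          subst this
          omega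
        · have : m = 30 := by omega
          subst this
          omega
        · have : m = 34 := by omega
          subst this
          omega
  · -- `A = 1`
    exfalso
    rcases Nat.lt_or_ge M 3 with hM3 | hM3
    · interval_cases M <;> (clear * - hCD hmM' hm1 hk; omega)
    · have h5 : m * 3 ≤ m * M := Nat.mul_le_mul_left _ hM3
      (clear * - hsh hmM' hm1 h5; omega)

/-- The quotients of `G`. -/
theorem num_quot {h A B C D M Q : ℕ} (h4 : 4 ≤ h) (he : Even h) (hA : A ≤ 1) (hB : B ≤ 2)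
    (hC : 2 * C + 2 ≤ h) (hD : 2 * D ≤ h)
    (hQ : Q = 1 + A * (2 * h + 1) ^ 2 + B * (h + 1) ^ 2 + C * (2 * h + 2) ^ 2 + D * (2 * h) ^ 2)
    (hM : Q * M = 2 * h * (h + 1) * (2 * h + 1)) (hdvd : (2 * h + 1) ∣ Q) : M = 1 ∨ Q = 90 := by
  obtain ⟨m, hm⟩ := hdvd
  have hmM : m * M = 2 * h * (h + 1) := by
    have : (m * M) * (2 * h + 1) = (2 * h * (h + 1)) * (2 * h + 1) := by
      rw [← hM, hm]; ring
    exact Nat.eq_of_mul_eq_mul_right (by omega) this
  have hQ' : ((2 * h + 1) * m : ℤ) = 1 + A * (2 * h + 1) ^ 2 + B * (h + 1) ^ 2 +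
      C * (2 * h + 2) ^ 2 + D * (2 * h) ^ 2 := by
    have := hm.symm.trans hQ
    exact_mod_cast this
  have hdvd : (2 * h + 1 : ℤ) ∣ 4 * (C + D) + B + 4 := by
    refine ⟨4 * m - 4 * A * (2 * h + 1) - B * (2 * h + 1) - 2 * B
       - 4 * C * (2 * h + 1) - 8 * C - 4 * D * (2 * h - 1), ?_⟩
    linear_combination - 4 * hQ'
  have h1 : (2 * h + 1) ∣ 4 * (C + D) + B + 4 := by exact_mod_cast hdvd
  obtain ⟨n, hn⟩ := h1
  have hn2 : n = 1 ∨ n = 2 := by
    have h2 : n < 3 := by
      by_contra hc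
      have : (2 * h + 1) * 3 ≤ (2 * h + 1) * n := Nat.mul_le_mul_left _ (by omega)
      omega
    have h3 : 0 < n := by
      rcases Nat.eq_zero_or_pos n with rfl | h3
      · (clear * - hn; omega)
      · exact h3
    omega
  have hA' : A = 0 ∨ A = 1 := by omega
  rcases hn2 with rfl | rfl
  · -- `4 (C + D) + B + 4 = 2 h + 1`
    have hB1 : B = 1 := by
      obtain ⟨k, hk⟩ := he
      omega
    subst hB1
    have hCD : 2 * (C + D) + 2 = h := by omega
    have hm1 : m + 2 * h = h ^ 2 + 2 + 4 * C + A * (2 * h + 1) := by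
      have h5 : ((m + 2 * h) * (2 * h + 1) : ℤ) = (h ^ 2 + 2 + 4 * C + A * (2 * h + 1)) * (2 * h + 1) := by
        have hD2 : (2 * D : ℤ) = h - 2 - 2 * C := by omega
        push_cast at hQ'
        linear_combination hQ' + 2 * h ^ 2 * hD2
      have h6 : (m + 2 * h : ℤ) = (h ^ 2 + 2 + 4 * C + A * (2 * h + 1)) :=
        mul_right_cancel₀ (by positivity) h5
      exact_mod_cast h6
    obtain ⟨rfl, rfl, rfl, rfl⟩ := num_one h4 he hA' hmM hCD hm1
    right
    rw [hQ]
    norm_num
  · left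
    have hB2 : B = 2 := by omega
    subst hB2
    have hC2 : 2 * C + 2 = h := by omega
    have hD2 : 2 * D = h := by omega
    have hG : Q + (1 - A) * (2 * h + 1) ^ 2 = 2 * h * (h + 1) * (2 * h + 1) := by
      rw [hQ]
      obtain rfl : D = C + 1 := by omega
      obtain rfl : h = 2 * C + 2 := hC2.symm
      rcases hA' with rfl | rfl
      · simp only [Nat.sub_zero]
        ring
      · simp only [Nat.sub_self]
        ring
    have hQpos : 0 < Q := by
      rw [hQ]; (clear * - h4; positivity)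
    rcases hA' with rfl | rfl
    · exfalso
      rw [← hM] at hG
      simp only [Nat.sub_zero, one_mul] at hG
      have hM2 : 2 ≤ M := by
        by_contra hc
        have : M = 0 ∨ M = 1 := by omega
        have h9 : 0 < (2 * h + 1) ^ 2 := by positivity
        rcases this with rfl | rfl
        · rw [mul_zero] at hG; omega
        · rw [mul_one] at hG; omega
      have h5 : Q * 2 ≤ Q * M := Nat.mul_le_mul_left _ hM2
      have h6 : Q ≤ (2 * h + 1) ^ 2 := by
        have : Q * 2 ≤ Q + (2 * h + 1) ^ 2 := by rw [hG]; exact h5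
        omega
      rw [hQ] at h6
      nlinarith only [h4, hM, hG, h5]
    · simp only [Nat.sub_self, zero_mul, add_zero] at hG
      rw [← hM] at hG
      have : Q * M = Q * 1 := by rw [mul_one]; exact hG.symm
      exact Nat.eq_of_mul_eq_mul_left hQpos this

end Cfsg.Agent.H727.PslSqNum
end

-- part: H727/PslSq
section
/-!
# Groups with the degrees of `PSL(2, p ^ 2)`
-/

set_option autoImplicit false

namespace Cfsg.Agent.H727.PslSq

open Cfsg Cfsg.Agent.Characters.Core Cfsg.Agent.H727.DegCount Matrix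
open Cfsg.Agent.Blocks.Basic

theorem commutator_of_surjective {G H : Type*} [Group G] [Group H] (f : G →* H)
    (hf : Function.Surjective f) (h : commutator G = ⊤) : commutator H = ⊤ := by
  rw [commutator_def] at h ⊢
  have h1 : (⊤ : Subgroup H) = (⊤ : Subgroup G).map f := by
    rw [← MonoidHom.range_eq_map]
    exact (MonoidHom.range_eq_top.2 hf).symm
  conv_lhs => rw [h1, ← Subgroup.map_commutator, h]
  exact h1.symm

theorem eq_top_of_index_dvd_pow {G : Type*} [Group G] [Finite G] {p k : ℕ} (hp : p.Prime)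
    (hG : commutator G = ⊤) (N : Subgroup G) [N.Normal] (h : N.index ∣ p ^ k) : N = ⊤ := by
  by_contra hN
  obtain ⟨j, -, hj⟩ := (Nat.dvd_prime_pow hp).1 h
  have : Fact p.Prime := ⟨hp⟩
  have hpg : IsPGroup p (G ⧸ N) := IsPGroup.of_card (n := j) (by rw [← Subgroup.index_eq_card, hj])
  have hnil : Group.IsNilpotent (G ⧸ N) := hpg.isNilpotent
  have hsol : Group.IsSolvable (G ⧸ N) := inferInstance
  have hnt : Nontrivial (G ⧸ N) := by
    rw [← not_subsingleton_iff_nontrivial]
    intro hs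
    exact hN (QuotientGroup.subgroup_eq_top_of_subsingleton N hs)
  have h1 := Group.IsSolvable.commutator_lt_top_of_nontrivial (G ⧸ N)
  rw [commutator_of_surjective (QuotientGroup.mk' N) (QuotientGroup.mk'_surjective N) hG] at h1
  exact lt_irrefl _ h1

/-- A normal subgroup of order divisible by `p`, when `p ^ 2` is the only degree divisible by `p`
and there is only one character of this degree. -/
theorem not_dvd_card {G : Type*} [Group G] [Finite G] {p : ℕ} (hp : p.Prime)
    (hG : commutator G = ⊤) (h1 : cnt G (p ^ 2) = 1)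
    (hdeg : ∀ d, 0 < cnt G d → p ∣ d → d = p ^ 2) (hcard : ¬ p ^ 3 ∣ Nat.card G)
    (N : Subgroup G) [hNn : N.Normal] (hN : N ≠ ⊤) : ¬ p ∣ Nat.card N := by
  classical
  have := Fintype.ofFinite G
  have := Fintype.ofFinite N
  intro hpN
  obtain ⟨⟨χ, hχ⟩, hχ1⟩ := exists_of_cnt_pos (G := G) (d := p ^ 2) (by rw [h1]; exact one_pos)
  have hχ1' : χ 1 = ((p ^ 2 : ℕ) : ℂ) := hχ1
  have hres := Cfsg.Agent.Characters.Clifford.isCharacter_restrict N (isIrr_isCharacter hχ)
  have hres0 : (fun n : N => χ n) ≠ 0 := by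
    intro h0
    have h2 := congrFun h0 1
    simp only [OneMemClass.coe_one, Pi.zero_apply] at h2
    exact isIrr_apply_one_ne_zero hχ h2
  obtain ⟨θ, hθ, hover⟩ := H113.NormTwoChar.exists_constituent hres hres0
  obtain ⟨n, hn0, hn⟩ := isIrr_apply_one hθ
  obtain ⟨hd1, hd2⟩ := H596.charDegree_dvd_of_over N hχ hθ hover
  have hcχ : charDegree χ = p ^ 2 := by
    have := irr_one_eq_charDegree hχ
    rw [hχ1'] at this
    exact_mod_cast this.symm
  have hcθ : charDegree θ = n := by
    have := irr_one_eq_charDegree hθ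
    rw [hn] at this
    exact_mod_cast this.symm
  rw [hcχ, hcθ] at hd1 hd2
  by_cases hpn : p ∣ n
  · -- the character `χ` is the only one over `θ`
    have huniq : ∀ ψ : IrrCharacter G, (ψ : G → ℂ) ≠ χ →
        classInner (indFun N θ) (ψ : G → ℂ) = 0 := by
      intro ψ hψ
      rw [CharactersDeep.NormalInd.classInner_indFun N θ _ (isIrr_isClassFunction ψ.2)]
      by_contra hne
      have h2 : classInner (fun n : N => (ψ : G → ℂ) n) θ ≠ 0 := by
        intro h3
        apply hne
        rw [← classInner_conj_symm, h3, map_zero]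
      obtain ⟨m, hm⟩ := CharDeep.PowerDegrees.degree_dvd N ψ.2 hθ h2
      have h3 : (ψ : G → ℂ) 1 = ((m * n : ℕ) : ℂ) := by
        rw [hm, hn]; push_cast; ring
      have h4 := hdeg _ (cnt_pos ψ h3) (hpn.mul_left m)
      rw [h4] at h3
      exact hψ (eq_of_cnt_le_one h1.le ψ.2 hχ h3 hχ1')
    have hfin := finite_irr (G := G)
    have : Fintype (IrrCharacter G) := Fintype.ofFinite _
    have hsum := classFunction_eq_sum (CharactersDeep.NormalInd.indFun_isClassFunction N θ)
    rw [Finset.sum_eq_single (⟨χ, hχ⟩ : IrrCharacter G)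
      (fun ψ _ hψ => by
        rw [huniq ψ (fun h => hψ (Subtype.ext h)), zero_smul])
      (fun h => absurd (Finset.mem_univ _) h)] at hsum
    have hval := congrFun hsum 1
    rw [CharactersDeep.NormalInd.indFun_one, hn, Pi.smul_apply, smul_eq_mul,
      CharactersDeep.NormalInd.classInner_indFun N θ _ (isIrr_isClassFunction hχ)] at hval
    simp only [hχ1'] at hval
    obtain ⟨e, he⟩ := classInner_isNat (isIrr_isCharacter hθ) hres
    rw [he] at hval
    have hval' : N.index * n = e * p ^ 2 := by exact_mod_cast hval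
    have he' : classInner (fun n : N => χ n) θ = e := by
      rw [← classInner_conj_symm, he, Complex.conj_natCast]
    have hcl := CharactersDeep.CliffordSum.restrict_eq_smul_sum N hχ hθ hover
    have hcl1 := congrFun hcl 1
    rw [he', Pi.smul_apply, Finset.sum_apply, Finset.sum_congr rfl (g := fun _ => (n : ℂ))] at hcl1
    · simp only [OneMemClass.coe_one, hχ1', Finset.sum_const, nsmul_eq_mul, smul_eq_mul] at hcl1
      have hcl2 : p ^ 2 = e * ((Finset.univ.image
          (fun x : G => θ ∘ (MulAut.conjNormal x : MulAut N))).card * n) := by exact_mod_cast hcl1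
      have hep : e ∣ p ^ 2 := ⟨_, hcl2⟩
      have hidx : N.index ∣ p ^ 4 := by
        have h5 : N.index ∣ e * p ^ 2 := ⟨n, hval'.symm⟩
        exact h5.trans (by
          have : p ^ 4 = p ^ 2 * p ^ 2 := by ring
          rw [this]
          exact Nat.mul_dvd_mul_right hep _)
      exact hN (eq_top_of_index_dvd_pow hp hG N hidx)
    · intro ψ hψ
      obtain ⟨x, -, rfl⟩ := Finset.mem_image.1 hψ
      rw [Function.comp_apply, map_one, hn]
  · -- `θ` is linear
    have hn1 : n = 1 := by
      obtain ⟨j, -, hj⟩ := (Nat.dvd_prime_pow hp).1 hd1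
      rcases Nat.eq_zero_or_pos j with rfl | hj0
      · rw [hj, pow_zero]
      · exact absurd (by rw [hj]; exact dvd_pow_self p hj0.ne') hpn
    rw [hn1, Nat.div_one] at hd2
    apply hcard
    rw [← Subgroup.card_mul_index N, pow_succ']
    exact Nat.mul_dvd_mul hpN hd2

/-- The degrees of `PSL(2, q)`, `q = 2 h + 1`, `h` even. -/
theorem psl_degrees {F : Type*} [Field F] [Fintype F] {h : ℕ} (hq : Fintype.card F = 2 * h + 1)
    (h4 : 4 ≤ h) (he : Even h) :
    (∀ d, 0 < cnt (ProjectiveSpecialLinearGroup (Fin 2) F) d →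
      d ∈ ({1, 2 * h + 1, h + 1, 2 * h + 2, 2 * h} : Finset ℕ)) ∧
    cnt (ProjectiveSpecialLinearGroup (Fin 2) F) 1 = 1 ∧
    cnt (ProjectiveSpecialLinearGroup (Fin 2) F) (2 * h + 1) = 1 ∧
    cnt (ProjectiveSpecialLinearGroup (Fin 2) F) (h + 1) = 2 ∧
    2 * cnt (ProjectiveSpecialLinearGroup (Fin 2) F) (2 * h + 2) + 2 = h ∧
    2 * cnt (ProjectiveSpecialLinearGroup (Fin 2) F) (2 * h) = h ∧
    Nat.card (ProjectiveSpecialLinearGroup (Fin 2) F) = 2 * h * (h + 1) * (2 * h + 1) := by
  classical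
  have hfin : Finite (ProjectiveSpecialLinearGroup (Fin 2) F) := by
    unfold Matrix.ProjectiveSpecialLinearGroup
    infer_instance
  have hodd : Odd (Fintype.card F) := ⟨h, hq⟩
  obtain ⟨nu, hnu⟩ := H670.SL2.exists_not_square (F := F) hodd
  have hcard : Nat.card (ProjectiveSpecialLinearGroup (Fin 2) F) = 2 * h * (h + 1) * (2 * h + 1) := by
    have h1 := ClassicalGeometry.PSL2Basic.card_PSL2_odd (F := F) hodd
    rw [hq] at h1
    have h2 : (2 * h + 1) ^ 2 - 1 = 4 * h * (h + 1) := by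
      have : (2 * h + 1) ^ 2 = 4 * h * (h + 1) + 1 := by ring
      omega
    rw [h2] at h1
    have h3 : Nat.card (ProjectiveSpecialLinearGroup (Fin 2) F) * 2 =
        (2 * h * (h + 1) * (2 * h + 1)) * 2 := by rw [h1]; ring
    omega
  have hSL : ∀ d, cnt (_root_.Matrix.SpecialLinearGroup (Fin 2) F) d =
      (h - 1) * (if 2 * h + 2 = d then 1 else 0) + (if 1 = d then 1 else 0) +
      2 * (if h + 1 = d then 1 else 0) + (if 2 * h + 1 = d then 1 else 0) +
      h * (if 2 * h = d then 1 else 0) + 2 * (if h = d then 1 else 0) := fun d =>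
    H670.SL2.card_degree hnu hq (d : ℂ) d rfl
  have hle : ∀ d, cnt (ProjectiveSpecialLinearGroup (Fin 2) F) d ≤
      cnt (_root_.Matrix.SpecialLinearGroup (Fin 2) F) d := fun d =>
    cnt_le (QuotientGroup.mk' _) (QuotientGroup.mk'_surjective _) d
  have hmem : ∀ d, 0 < cnt (ProjectiveSpecialLinearGroup (Fin 2) F) d →
      d ∈ ({1, 2 * h + 1, h + 1, h, 2 * h + 2, 2 * h} : Finset ℕ) := by
    intro d hd
    have h1 := hle d
    rw [hSL] at h1
    simp only [Finset.mem_insert, Finset.mem_singleton]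
    by_contra hc
    push Not at hc
    obtain ⟨c1, c2, c3, c4, c5, c6⟩ := hc
    rw [if_neg (Ne.symm c5), if_neg (Ne.symm c1), if_neg (Ne.symm c3), if_neg (Ne.symm c2),
      if_neg (Ne.symm c6), if_neg (Ne.symm c4)] at h1
    omega
  have e1 : cnt (ProjectiveSpecialLinearGroup (Fin 2) F) 1 ≤ 1 := by
    refine (hle 1).trans (le_of_eq ?_)
    rw [hSL, if_neg (by omega), if_pos rfl, if_neg (by omega), if_neg (by omega), if_neg (by omega),
      if_neg (by omega)]
    simp
  have e1' : cnt (ProjectiveSpecialLinearGroup (Fin 2) F) 1 = 1 := le_antisymm e1 cnt_one_pos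
  have eA : cnt (ProjectiveSpecialLinearGroup (Fin 2) F) (2 * h + 1) ≤ 1 := by
    refine (hle _).trans (le_of_eq ?_)
    rw [hSL, if_neg (by omega), if_neg (by omega), if_neg (by omega), if_pos rfl, if_neg (by omega),
      if_neg (by omega)]
    simp
  have eB : cnt (ProjectiveSpecialLinearGroup (Fin 2) F) (h + 1) ≤ 2 := by
    refine (hle _).trans (le_of_eq ?_)
    rw [hSL, if_neg (by omega), if_neg (by omega), if_pos rfl, if_neg (by omega), if_neg (by omega),
      if_neg (by omega)]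
    simp
  have eB' : cnt (ProjectiveSpecialLinearGroup (Fin 2) F) h ≤ 2 := by
    refine (hle _).trans (le_of_eq ?_)
    rw [hSL, if_neg (by omega), if_neg (by omega), if_neg (by omega), if_neg (by omega),
      if_neg (by omega), if_pos rfl]
    simp
  have eC : cnt (ProjectiveSpecialLinearGroup (Fin 2) F) (2 * h + 2) + 1 ≤ h := by
    have h1 := hle (2 * h + 2)
    rw [hSL, if_pos rfl, if_neg (by omega), if_neg (by omega), if_neg (by omega), if_neg (by omega),
      if_neg (by omega)] at h1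
    omega
  have eD : cnt (ProjectiveSpecialLinearGroup (Fin 2) F) (2 * h) ≤ h := by
    have h1 := hle (2 * h)
    rw [hSL, if_neg (by omega), if_neg (by omega), if_neg (by omega), if_neg (by omega), if_pos rfl,
      if_neg (by omega)] at h1
    omega
  have hsum := sum_cnt _ hmem
  rw [Finset.sum_insert (by simp only [Finset.mem_insert, Finset.mem_singleton]; omega),
    Finset.sum_insert (by simp only [Finset.mem_insert, Finset.mem_singleton]; omega),
    Finset.sum_insert (by simp only [Finset.mem_insert, Finset.mem_singleton]; omega),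
    Finset.sum_insert (by simp only [Finset.mem_insert, Finset.mem_singleton]; omega),
    Finset.sum_insert (by simp only [Finset.mem_singleton]; omega), Finset.sum_singleton,
    hcard, e1'] at hsum
  obtain ⟨g1, g2, g3, g4, g5⟩ := PslSqNum.num_psl h4 he eA eB eB' eC eD (by rw [← hsum]; ring)
  refine ⟨fun d hd => ?_, e1', g1, g2, g4, g5, hcard⟩
  have h1 := hmem d hd
  simp only [Finset.mem_insert, Finset.mem_singleton] at h1 ⊢
  rcases h1 with h1 | h1 | h1 | h1 | h1 | h1
  · exact Or.inl h1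
  · exact Or.inr (Or.inl h1)
  · exact Or.inr (Or.inr (Or.inl h1))
  · rw [h1, g3] at hd
    exact absurd hd (lt_irrefl 0)
  · exact Or.inr (Or.inr (Or.inr (Or.inl h1)))
  · exact Or.inr (Or.inr (Or.inr (Or.inr h1)))

/-- There is no perfect group of order `90`. -/
theorem card_ne_90 {G : Type*} [Group G] [Finite G] (hG : commutator G = ⊤) : Nat.card G ≠ 90 := by
  intro h
  have : Fact (Nat.Prime 2) := ⟨Nat.prime_two⟩
  let P : Sylow 2 G := default
  have hP : Nat.card P = 2 := SmallSimple.PrimeLocal.card_of_not_sq_dvd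
    (by rw [h]; norm_num) (by rw [h]; norm_num) P
  have hcyc : IsCyclic (P : Subgroup G) := isCyclic_of_prime_card (p := 2) hP
  obtain ⟨H, hH⟩ := TwoFusion.SimpleOddIndex.exists_index_two_of_cyclic P hcyc (by rw [h]; norm_num)
  have hn : H.Normal := Subgroup.normal_of_index_eq_two hH
  have h1 := eq_top_of_index_dvd_pow (k := 1) Nat.prime_two hG H (by rw [hH, pow_one])
  rw [h1, Subgroup.index_top] at hH
  omega

/-- A group with the degrees of `PSL(2, q)`, `q = p ^ 2` odd, is simple. -/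
theorem isSimpleGroup {F : Type*} [Field F] [Fintype F] {p : ℕ} (hp : p.Prime) (hp2 : p ≠ 2)
    (hF : Fintype.card F = p ^ 2) {G : Type*} [Group G] [Finite G]
    (hcnt : ∀ d : ℕ, cnt G d = cnt (ProjectiveSpecialLinearGroup (Fin 2) F) d) :
    IsSimpleGroup G := by
  classical
  have hfin : Finite (ProjectiveSpecialLinearGroup (Fin 2) F) := by
    unfold Matrix.ProjectiveSpecialLinearGroup
    infer_instance
  -- `p ^ 2 = 2 h + 1`, `4 ∣ h`
  have hodd : Odd p := hp.odd_of_ne_two hp2
  obtain ⟨k, hk⟩ := hodd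
  obtain ⟨h, hh, h4, he⟩ : ∃ h, p ^ 2 = 2 * h + 1 ∧ 4 ≤ h ∧ Even h := by
    have hk1 : 1 ≤ k := by
      have := hp.two_le
      omega
    refine ⟨2 * (k * (k + 1)), by rw [hk]; ring, by nlinarith only [hk1], even_two_mul _⟩
  have hq : Fintype.card F = 2 * h + 1 := by rw [hF, hh]
  obtain ⟨hS, c1, cA, cB, cC, cD, hcard⟩ := psl_degrees hq h4 he
  have hcG : Nat.card G = 2 * h * (h + 1) * (2 * h + 1) := by
    rw [card_eq_of_cnt hcnt, hcard]
  have hG : commutator G = ⊤ := commutator_eq_top_of_cnt (by rw [hcnt, c1])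
  have hSG : ∀ d, 0 < cnt G d → d ∈ ({1, 2 * h + 1, h + 1, 2 * h + 2, 2 * h} : Finset ℕ) :=
    fun d hd => hS d (by rw [← hcnt]; exact hd)
  have hph : p ∣ 2 * h + 1 := by rw [← hh]; exact dvd_pow_self p two_ne_zero
  have hph0 : ¬ p ∣ h := by
    intro h1
    have h2 : p ∣ 1 := (Nat.dvd_add_right (h1.mul_left 2)).1 hph
    exact hp.one_lt.ne' (Nat.dvd_one.1 h2)
  have hph1 : ¬ p ∣ h + 1 := by
    intro h1
    have h2 : p ∣ 2 * (h + 1) := h1.mul_left 2
    have h3 : 2 * (h + 1) = (2 * h + 1) + 1 := by ring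
    rw [h3] at h2
    exact hp.one_lt.ne' (Nat.dvd_one.1 ((Nat.dvd_add_right hph).1 h2))
  have hp2' : ¬ p ∣ 2 := fun h1 => hp2 ((Nat.prime_dvd_prime_iff_eq hp Nat.prime_two).1 h1)
  have hdeg : ∀ d, 0 < cnt G d → p ∣ d → d = p ^ 2 := by
    intro d hd hpd
    have h1 := hSG d hd
    simp only [Finset.mem_insert, Finset.mem_singleton] at h1
    rcases h1 with rfl | rfl | rfl | rfl | rfl
    · exact absurd (Nat.dvd_one.1 hpd) hp.one_lt.ne'
    · exact hh.symm
    · exact absurd hpd hph1
    · have h3 : 2 * h + 2 = 2 * (h + 1) := by ring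
      rw [h3] at hpd
      rcases (hp.dvd_mul).1 hpd with h4 | h4
      · exact absurd h4 hp2'
      · exact absurd h4 hph1
    · rcases (hp.dvd_mul).1 hpd with h4 | h4
      · exact absurd h4 hp2'
      · exact absurd h4 hph0
  have hp3 : ¬ p ^ 3 ∣ Nat.card G := by
    rw [hcG, ← hh, pow_succ']
    intro h1
    have h2 : p ∣ 2 * h * (h + 1) := Nat.dvd_of_mul_dvd_mul_right (pow_pos hp.pos 2) h1
    rcases (hp.dvd_mul).1 h2 with h3 | h3
    · rcases (hp.dvd_mul).1 h3 with h4 | h4
      · exact hp2' h4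
      · exact hph0 h4
    · exact hph1 h3
  have hnt : Nontrivial G := by
    rw [← Finite.one_lt_card_iff_nontrivial, hcG]
    calc 1 < 2 * 4 * (4 + 1) * (2 * 4 + 1) := by norm_num
      _ ≤ 2 * h * (h + 1) * (2 * h + 1) := by gcongr
  have cA' : cnt G (p ^ 2) = 1 := by rw [hcnt, hh, cA]
  refine ⟨fun N hN => ?_⟩
  by_cases hNt : N = ⊤
  · exact Or.inr hNt
  left
  have hpN := not_dvd_card hp hG cA' hdeg hp3 N hNt
  have hQ : commutator (G ⧸ N) = ⊤ :=
    commutator_of_surjective (QuotientGroup.mk' N) (QuotientGroup.mk'_surjective N) hG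
  have hle : ∀ d, cnt (G ⧸ N) d ≤ cnt G d := fun d =>
    cnt_le (QuotientGroup.mk' N) (QuotientGroup.mk'_surjective N) d
  have hsum := sum_cnt (G := G ⧸ N) _ (fun d hd => hSG d (hd.trans_le (hle d)))
  have q1 : cnt (G ⧸ N) 1 = 1 := le_antisymm ((hle 1).trans (by rw [hcnt, c1])) cnt_one_pos
  have qA : cnt (G ⧸ N) (2 * h + 1) ≤ 1 := (hle _).trans (by rw [hcnt, cA])
  have qB : cnt (G ⧸ N) (h + 1) ≤ 2 := (hle _).trans (by rw [hcnt, cB])
  have qC : 2 * cnt (G ⧸ N) (2 * h + 2) + 2 ≤ h := by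
    have := hle (2 * h + 2)
    rw [hcnt] at this
    omega
  have qD : 2 * cnt (G ⧸ N) (2 * h) ≤ h := by
    have := hle (2 * h)
    rw [hcnt] at this
    omega
  rw [Finset.sum_insert (by simp only [Finset.mem_insert, Finset.mem_singleton]; (clear * - cC; omega)),
    Finset.sum_insert (by simp only [Finset.mem_insert, Finset.mem_singleton]; (clear * - cC; omega)),
    Finset.sum_insert (by simp only [Finset.mem_insert, Finset.mem_singleton]; (clear * - cD; omega)),
    Finset.sum_insert (by simp only [Finset.mem_singleton]; omega), Finset.sum_singleton,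
    q1] at hsum
  have hprod : Nat.card (G ⧸ N) * Nat.card N = 2 * h * (h + 1) * (2 * h + 1) := by
    rw [← Subgroup.card_eq_card_quotient_mul_card_subgroup, hcG]
  have hdvd : (2 * h + 1) ∣ Nat.card (G ⧸ N) := by
    have h1 : p ^ 2 ∣ Nat.card (G ⧸ N) * Nat.card N := by
      rw [hprod, hh]; exact dvd_mul_left _ _
    rw [← hh]
    exact (Nat.Coprime.pow_left 2 ((hp.coprime_iff_not_dvd).2 hpN)).dvd_of_dvd_mul_right h1
  rcases PslSqNum.num_quot h4 he qA qB qC qD (by rw [← hsum]; ring) hprod hdvd with h1 | h1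
  · exact Subgroup.eq_bot_of_card_eq N h1
  · exact absurd h1 (card_ne_90 hQ)

/-- A perfect group of order `60` is simple. -/
theorem isSimpleGroup_of_card_60 {G : Type*} [Group G] [Finite G] (hG : commutator G = ⊤)
    (h : Nat.card G = 60) : IsSimpleGroup G := by
  have hnt : Nontrivial G := by
    rw [← Finite.one_lt_card_iff_nontrivial, h]
    norm_num
  obtain ⟨N, hN, hs⟩ := H438.MaxOrders.exists_simple_quotient G
  have hle : Nat.card (G ⧸ N) ∣ 60 := by
    rw [← h]
    exact Subgroup.card_quotient_dvd_card N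
  have hnc : ¬ IsCyclic (G ⧸ N) := by
    intro hc
    have h1 : commutator (G ⧸ N) = ⊤ :=
      commutator_of_surjective (QuotientGroup.mk' N) (QuotientGroup.mk'_surjective N) hG
    have h2 := Group.IsSolvable.commutator_lt_top_of_nontrivial (G ⧸ N)
    rw [h1] at h2
    exact lt_irrefl _ h2
  have h60 := S0493.result hnc ((Nat.le_of_dvd (by norm_num) hle).trans (by norm_num))
  have h1 := Subgroup.card_eq_card_quotient_mul_card_subgroup N
  rw [h, h60] at h1
  have h2 : N = ⊥ := Subgroup.eq_bot_of_card_eq N (by omega)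
  have e : G ≃* G ⧸ N := (QuotientGroup.quotientBot (G := G)).symm.trans
    (QuotientGroup.quotientMulEquivOfEq h2.symm)
  exact e.isSimpleGroup

/-- A group with the degrees of `PSL(2, 4)` is simple. -/
theorem isSimpleGroup_four {F : Type*} [Field F] [Fintype F] (hF : Fintype.card F = 4)
    {G : Type*} [Group G] [Finite G]
    (hcnt : ∀ d : ℕ, cnt G d = cnt (ProjectiveSpecialLinearGroup (Fin 2) F) d) :
    IsSimpleGroup G := by
  have hfin : Finite (ProjectiveSpecialLinearGroup (Fin 2) F) := by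
    unfold Matrix.ProjectiveSpecialLinearGroup
    infer_instance
  have hcard : Nat.card (ProjectiveSpecialLinearGroup (Fin 2) F) = 60 := by
    rw [ClassicalGeometry.PSL2Basic.card_PSL2_even (F := F) (by rw [hF]; decide), hF]
    norm_num
  have h60 : Nat.card G = 60 := by rw [card_eq_of_cnt hcnt, hcard]
  refine isSimpleGroup_of_card_60 ?_ h60
  apply commutator_eq_top_of_cnt
  rw [hcnt, cnt_one, Subgroup.index_eq_one]
  exact commutator_of_surjective (QuotientGroup.mk' _) (QuotientGroup.mk'_surjective _)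
    (TwoFusion.SLTwoFacts.commutator_eq_top (F := F) (by omega))

end Cfsg.Agent.H727.PslSq
end

private theorem dce_eec3e18f8209 : _root_.True := by
  try have : _root_.True := by simp only [_root_.Cfsg.Agent.H727.DegCount.cnt.eq_1]
  exact _root_.True.intro
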